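import Groth.Agent.GmDual77.Lift
import Groth.Agent.S8220
import Mathlib.RingTheory.Bialgebra.TensorProduct
import Mathlib.RingTheory.Bialgebra.GroupLike
import Mathlib.RingTheory.FiniteType
import Mathlib.RingTheory.FiniteStability
import Mathlib.Algebra.Algebra.Operations
import Mathlib.LinearAlgebra.Matrix.Determinant.Basic
import Mathlib.FieldTheory.IsAlgClosed.AlgebraicClosure
import Mathlib.GroupTheory.Finiteness
import Mathlib.RingTheory.Flat.Basic

/-!
# Group-like elements of cocommutative bialgebras of finite type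

* `exists_pow_lift`: along a surjection, a group-like element lifts after a positive power,
  and itself over an algebraically closed field.
* `fg_groupLike`: the units which are group-like form a finitely generated group.
-/

universe u

open TensorProduct Coalgebra

namespace Groth.Agent.GmDual77

variable {k : Type u} [Field k]

/-- A submodule stable under the comultiplication. -/
def IsSubCoalg {A : Type u} [AddCommGroup A] [Module k A] [Coalgebra k A] (W : Submodule k A) : Prop :=
  ∀ w ∈ W, comul (R := k) w ∈ LinearMap.range (TensorProduct.map W.subtype W.subtype)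

theorem exists_subCoalg {A : Type u} [AddCommGroup A] [Module k A] [Coalgebra k A] (s : Finset A) :
    ∃ W : Submodule k A, Module.Finite k W ∧ (s : Set A) ⊆ W ∧ IsSubCoalg W :=
  Groth.Agent.S8220.result s

section Pow

variable {A B : Type u} [CommRing A] [CommRing B] [Bialgebra k A] [Bialgebra k B]

/-- The determinant of a comultiplicative matrix is group-like. -/
theorem isGroupLike_det {d : ℕ} (M : Matrix (Fin d) (Fin d) A)
    (hc : ∀ i j, comul (R := k) (M i j) = ∑ l, M i l ⊗ₜ[k] M l j)
    (he : ∀ i j, counit (R := k) (M i j) = if i = j then 1 else 0) : IsGroupLikeElem k M.det := by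
  constructor
  · show Bialgebra.counitAlgHom k A M.det = 1
    rw [AlgHom.map_det]
    convert Matrix.det_one (n := Fin d) (R := k)
    ext i j
    simp [Matrix.one_apply, he]
  · show Bialgebra.comulAlgHom k A M.det = M.det ⊗ₜ M.det
    rw [AlgHom.map_det]
    have h1 : (Bialgebra.comulAlgHom k A).mapMatrix M =
        (Algebra.TensorProduct.includeLeft : A →ₐ[k] A ⊗[k] A).mapMatrix M *
          (Algebra.TensorProduct.includeRight : A →ₐ[k] A ⊗[k] A).mapMatrix M := by
      ext i j
      simp [Matrix.mul_apply, hc, Algebra.TensorProduct.tmul_mul_tmul]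
    rw [h1, Matrix.det_mul, ← AlgHom.map_det, ← AlgHom.map_det]
    simp [Algebra.TensorProduct.tmul_mul_tmul]

theorem exists_pow_lift [IsCocomm k A] [IsCocomm k B] (π : A →ₐc[k] B) (hπ : Function.Surjective π)
    {b : B} (hb : IsGroupLikeElem k b) :
    ∃ (N : ℕ) (c : A), 0 < N ∧ (IsAlgClosed k → N = 1) ∧ IsGroupLikeElem k c ∧ π c = b ^ N := by
  obtain ⟨a, ha⟩ := hπ b
  obtain ⟨W, hWf, haW, hW⟩ := exists_subCoalg (k := k) {a}
  obtain ⟨d, M, hd, hd1, -, hc, he, hπM⟩ :=
    exists_lift (π : A →ₗc[k] B) W hW hb (haW (Finset.mem_coe.2 (Finset.mem_singleton_self a))) ha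
  refine ⟨d, M.det, hd, hd1, isGroupLike_det M hc he, ?_⟩
  show (π : A →ₐ[k] B) M.det = _
  rw [AlgHom.map_det]
  have : (π : A →ₐ[k] B).mapMatrix M = Matrix.diagonal fun _ => b := by
    ext i j
    rw [Matrix.diagonal_apply]
    exact hπM i j
  rw [this, Matrix.det_diagonal, Finset.prod_const, Finset.card_univ, Fintype.card_fin]

end Pow

section FG

variable {B : Type u} [CommRing B] [Bialgebra k B]

theorem isSubCoalg_one : IsSubCoalg (1 : Submodule k B) := by
  intro w hw
  obtain ⟨c, rfl⟩ := Submodule.mem_one.1 hw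
  refine ⟨⟨algebraMap k B c, Submodule.mem_one.2 ⟨c, rfl⟩⟩ ⊗ₜ ⟨1, Submodule.mem_one.2 ⟨1, map_one _⟩⟩, ?_⟩
  show algebraMap k B c ⊗ₜ[k] (1 : B) = Bialgebra.comulAlgHom k B (algebraMap k B c)
  rw [AlgHom.commutes]
  rfl

/-- The image of `U ⊗ W` in `B ⊗ B`. -/
noncomputable def tens (U W : Submodule k B) : Submodule k (B ⊗[k] B) :=
  LinearMap.range (TensorProduct.map U.subtype W.subtype)

theorem tmul_mem_tens {U W : Submodule k B} {x y : B} (hx : x ∈ U) (hy : y ∈ W) : x ⊗ₜ[k] y ∈ tens U W :=
  ⟨⟨x, hx⟩ ⊗ₜ ⟨y, hy⟩, rfl⟩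

theorem isSubCoalg_tens {U W : Submodule k B} (hU : IsSubCoalg U) (hW : IsSubCoalg W) : IsSubCoalg (tens U W) := by
  rintro _ ⟨z, rfl⟩
  induction z using TensorProduct.induction_on with
  | zero => simp
  | add x y hx hy => rw [map_add, map_add]; exact Submodule.add_mem _ hx hy
  | tmul x y =>
    rw [TensorProduct.map_tmul, Submodule.subtype_apply, Submodule.subtype_apply, TensorProduct.comul_tmul]
    obtain ⟨zx, hzx⟩ := hU x x.2
    obtain ⟨zy, hzy⟩ := hW y y.2
    rw [← hzx, ← hzy]
    clear hzx hzy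
    induction zx using TensorProduct.induction_on with
    | zero => simp
    | add p q hp hq => simp only [map_add, TensorProduct.add_tmul]; exact Submodule.add_mem _ hp hq
    | tmul x1 x2 =>
      induction zy using TensorProduct.induction_on with
      | zero => simp
      | add p q hp hq => simp only [map_add, TensorProduct.tmul_add]; exact Submodule.add_mem _ hp hq
      | tmul y1 y2 =>
        exact ⟨⟨_, tmul_mem_tens x1.2 y1.2⟩ ⊗ₜ ⟨_, tmul_mem_tens x2.2 y2.2⟩, rfl⟩

theorem isSubCoalg_mul {U W : Submodule k B} (hU : IsSubCoalg U) (hW : IsSubCoalg W) : IsSubCoalg (U * W) := by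
  intro w hw
  refine Submodule.mul_induction_on hw (fun x hx y hy => ?_) (fun x y hx hy => ?_)
  · rw [Bialgebra.comul_mul]
    obtain ⟨zx, hzx⟩ := hU x hx
    obtain ⟨zy, hzy⟩ := hW y hy
    rw [← hzx, ← hzy]
    clear hzx hzy
    induction zx using TensorProduct.induction_on with
    | zero => simp
    | add p q hp hq => simp only [map_add, add_mul]; exact Submodule.add_mem _ hp hq
    | tmul x1 x2 =>
      induction zy using TensorProduct.induction_on with
      | zero => simp
      | add p q hp hq => simp only [map_add, mul_add]; exact Submodule.add_mem _ hp hq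
      | tmul y1 y2 =>
        exact ⟨⟨_, Submodule.mul_mem_mul x1.2 y1.2⟩ ⊗ₜ ⟨_, Submodule.mul_mem_mul x2.2 y2.2⟩,
          by simp [Algebra.TensorProduct.tmul_mul_tmul]⟩
  · rw [map_add]; exact Submodule.add_mem _ hx hy

/-- The two projections of `B ⊗ B`, as coalgebra maps. -/
noncomputable def proj₁ : B ⊗[k] B →ₗc[k] B :=
  (Coalgebra.TensorProduct.rid k k B).toCoalgHom.comp
    (Coalgebra.TensorProduct.map (CoalgHom.id k B) (Coalgebra.counitCoalgHom k B))

/-- See `proj₁`. -/
noncomputable def proj₂ : B ⊗[k] B →ₗc[k] B :=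
  (Coalgebra.TensorProduct.lid k B).toCoalgHom.comp
    (Coalgebra.TensorProduct.map (Coalgebra.counitCoalgHom k B) (CoalgHom.id k B))

theorem proj₁_tmul (x y : B) : proj₁ (k := k) (x ⊗ₜ[k] y) = counit (R := k) y • x := rfl

theorem proj₂_tmul (x y : B) : proj₂ (k := k) (x ⊗ₜ[k] y) = counit (R := k) x • y := rfl

/-- A group-like element of a product of two subcoalgebras is a product of group-like elements. -/
theorem exists_mul_groupLike [IsAlgClosed k] [IsCocomm k B] {U W : Submodule k B} [Module.Finite k U] [Module.Finite k W]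
    (hU : IsSubCoalg U) (hW : IsSubCoalg W) {b : B} (hb : IsGroupLikeElem k b) (hbUW : b ∈ U * W) :
    ∃ c₁ ∈ U, ∃ c₂ ∈ W, IsGroupLikeElem k c₁ ∧ IsGroupLikeElem k c₂ ∧ c₁ * c₂ = b := by
  obtain ⟨a, ha, hab⟩ : ∃ a ∈ tens U W, LinearMap.mul' k B a = b := by
    refine Submodule.mul_induction_on hbUW (fun x hx y hy => ⟨_, tmul_mem_tens hx hy, by simp⟩) ?_
    rintro x y ⟨p, hp, hpx⟩ ⟨q, hq, hqy⟩
    exact ⟨p + q, add_mem hp hq, by rw [map_add, hpx, hqy]⟩
  have : Module.Finite k (tens U W) := Module.Finite.range _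
  obtain ⟨d, M, -, hd1, hMW, hc, he, hπM⟩ :=
    exists_lift (Bialgebra.mulCoalgHom k B) (tens U W) (isSubCoalg_tens hU hW) hb ha hab
  obtain rfl := hd1 inferInstance
  have hz : IsGroupLikeElem k (M 0 0) := ⟨by simpa using he 0 0, by simpa using hc 0 0⟩
  have hmem : proj₁ (k := k) (M 0 0) ∈ U ∧ proj₂ (k := k) (M 0 0) ∈ W := by
    obtain ⟨w, hw⟩ := hMW 0 0
    rw [← hw]
    clear hw
    induction w using TensorProduct.induction_on with
    | zero => simp
    | tmul x y => exact ⟨U.smul_mem _ x.2, W.smul_mem _ y.2⟩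
    | add p q hp hq => simp only [map_add]; exact ⟨add_mem hp.1 hq.1, add_mem hp.2 hq.2⟩
  refine ⟨_, hmem.1, _, hmem.2, hz.map (proj₁ (k := k)), hz.map (proj₂ (k := k)), ?_⟩
  have key : ∀ z : B ⊗[k] B, LinearMap.mul' k B (TensorProduct.map (proj₁ (k := k)).toLinearMap
      (proj₂ (k := k)).toLinearMap (comul z)) = LinearMap.mul' k B z := by
    intro z
    induction z using TensorProduct.induction_on with
    | zero => simp
    | add p q hp hq => simp only [map_add, hp, hq]
    | tmul x y =>
      have hsmul : ∑ i ∈ (ℛ k x).index, counit (R := k) ((ℛ k x).right i) • (ℛ k x).left i = x := by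
        have h := congrArg (_root_.TensorProduct.rid k B) (sum_tmul_counit_eq (ℛ k x))
        simpa only [map_sum, TensorProduct.rid_tmul, one_smul] using h
      rw [← (Coalgebra.Repr.tmul (ℛ k x) (ℛ k y)).eq]
      simp only [map_sum, TensorProduct.map_tmul, Coalgebra.Repr.tmul_left, Coalgebra.Repr.tmul_right,
        Coalgebra.Repr.tmul_index, LinearMap.mul'_apply, CoalgHom.coe_toLinearMap, proj₁_tmul, proj₂_tmul]
      conv_rhs => rw [← Coalgebra.sum_counit_smul (ℛ k y)]
      conv_rhs => enter [1]; rw [← hsmul]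
      rw [Finset.sum_mul_sum, Finset.sum_product]
      refine Finset.sum_congr rfl fun i _ => Finset.sum_congr rfl fun j _ => ?_
      show proj₁ (k := k) ((ℛ k x).left i ⊗ₜ[k] (ℛ k y).left j) * proj₂ (k := k) ((ℛ k x).right i ⊗ₜ[k] (ℛ k y).right j) = _
      rw [proj₁_tmul, proj₂_tmul, smul_mul_smul_comm, smul_mul_smul_comm]
      congr 1
      ring
  have := key (M 0 0)
  rw [hz.comul_eq_tmul_self, TensorProduct.map_tmul] at this
  exact this.trans (by simpa using hπM 0 0)

/-- Over an algebraically closed field the group-like elements of a bialgebra of finite type are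
generated as a monoid by finitely many of them. -/
theorem exists_finite_closure [IsAlgClosed k] [IsCocomm k B] [Algebra.FiniteType k B] :
    ∃ F : Set B, F.Finite ∧ ∀ b : B, IsGroupLikeElem k b → b ∈ Submonoid.closure F := by
  classical
  obtain ⟨s, hs⟩ := ‹Algebra.FiniteType k B›.out
  obtain ⟨W, hWf, hsW, hW⟩ := exists_subCoalg (k := k) (insert (1 : B) s)
  have h1W : (1 : B) ∈ W := hsW (Finset.mem_coe.2 (Finset.mem_insert_self 1 s))
  set F : Set B := {b | IsGroupLikeElem k b ∧ b ∈ W}
  have hF : F.Finite := by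
    have h : LinearIndepOn k id F :=
      (linearIndepOn_isGroupLikeElem (R := k) (A := B)).mono fun b hb => hb.1
    have hi : LinearIndependent k (fun x : F => (⟨x.1, x.2.2⟩ : W)) :=
      LinearIndependent.of_comp W.subtype h
    have := hi.finite
    exact Set.toFinite F
  refine ⟨F, hF, ?_⟩
  have hle : ∀ n, W ^ n ≤ W ^ (n + 1) := fun n x hx => by
    rw [pow_succ]
    simpa using Submodule.mul_mem_mul hx h1W
  have hsub : ∀ n, IsSubCoalg (W ^ n) ∧ Module.Finite k (W ^ n : Submodule k B) := by
    intro n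
    induction n with
    | zero => exact ⟨by rw [pow_zero]; exact isSubCoalg_one,
        by rw [Module.Finite.iff_fg, pow_zero, Submodule.one_eq_span]; exact Submodule.fg_span_singleton _⟩
    | succ n ih =>
      refine ⟨by rw [pow_succ]; exact isSubCoalg_mul ih.1 hW, ?_⟩
      rw [Module.Finite.iff_fg, pow_succ]
      exact (Module.Finite.iff_fg.1 ih.2).mul (Module.Finite.iff_fg.1 hWf)
  have hind : ∀ n, ∀ b : B, IsGroupLikeElem k b → b ∈ W ^ n → b ∈ Submonoid.closure F := by
    intro n
    induction n with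
    | zero =>
      intro b hb hbn
      rw [pow_zero, Submodule.mem_one] at hbn
      obtain ⟨c, rfl⟩ := hbn
      have := hb.counit_eq_one
      rw [Bialgebra.counit_algebraMap] at this
      rw [this, map_one]
      exact one_mem _
    | succ n ih =>
      intro b hb hbn
      rw [pow_succ] at hbn
      obtain ⟨hn, hfin⟩ := hsub n
      obtain ⟨c₁, h₁, c₂, h₂, g₁, g₂, rfl⟩ := exists_mul_groupLike hn hW hb hbn
      exact mul_mem (ih c₁ g₁ h₁) (Submonoid.subset_closure ⟨g₂, h₂⟩)
  intro b hb
  have hb' : b ∈ Algebra.adjoin k (W : Set B) :=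
    Algebra.adjoin_mono (fun x hx => hsW (Finset.mem_coe.2 (Finset.mem_insert_of_mem (Finset.mem_coe.1 hx))))
      (hs ▸ Algebra.mem_top : b ∈ Algebra.adjoin k (s : Set B))
  obtain ⟨n, hn⟩ : ∃ n, b ∈ W ^ n := by
    have hmono : Monotone fun n => W ^ n := monotone_nat_of_le_succ hle
    clear hb
    induction hb' using Algebra.adjoin_induction with
    | mem x hx => exact ⟨1, by rwa [pow_one]⟩
    | algebraMap c => exact ⟨0, by rw [pow_zero]; exact Submodule.mem_one.2 ⟨c, rfl⟩⟩
    | add x y _ _ hx hy =>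
      obtain ⟨i, hi⟩ := hx; obtain ⟨j, hj⟩ := hy
      exact ⟨max i j, add_mem (hmono (le_max_left i j) hi) (hmono (le_max_right i j) hj)⟩
    | mul x y _ _ hx hy =>
      obtain ⟨i, hi⟩ := hx; obtain ⟨j, hj⟩ := hy
      exact ⟨i + j, by rw [pow_add]; exact Submodule.mul_mem_mul hi hj⟩
  exact hind n b hb hn

/-- The group of group-like units. -/
def groupLikeUnits (k : Type u) (B : Type u) [Field k] [CommRing B] [Bialgebra k B] : Subgroup Bˣ where
  carrier := {v | IsGroupLikeElem k (v : B)}
  one_mem' := IsGroupLikeElem.one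
  mul_mem' := fun ha hb => IsGroupLikeElem.mul ha hb
  inv_mem' := fun {v} hv => isGroupLikeElem_unitsInv.2 hv

theorem fg_groupLike [IsCocomm k B] [Algebra.FiniteType k B] : Group.FG (groupLikeUnits k B) := by
  classical
  let K := AlgebraicClosure k
  have : Algebra.FiniteType K (K ⊗[k] B) := Algebra.FiniteType.baseChange K
  obtain ⟨F, hF, hgen⟩ := exists_finite_closure (k := K) (B := K ⊗[k] B)
  -- inside the units of `K ⊗ B`
  let G := (groupLikeUnits k B).map (Units.map
    ((Algebra.TensorProduct.includeRight : B →ₐ[k] K ⊗[k] B) : B →* K ⊗[k] B))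
  let Fu : Set (K ⊗[k] B)ˣ := Units.val ⁻¹' F
  have hFu : Fu.Finite := hF.preimage Units.val_injective.injOn
  have hle : G ≤ Subgroup.closure Fu := by
    rintro _ ⟨v, hv, rfl⟩
    have hgl : IsGroupLikeElem K ((1 : K) ⊗ₜ[k] (v : B)) := by
      have h1 : comul (R := k) (v : B) = (v : B) ⊗ₜ (v : B) := hv.comul_eq_tmul_self
      have h2 : counit (R := k) (v : B) = 1 := hv.counit_eq_one
      exact ⟨by simp [h2], by rw [TensorProduct.comul_tmul, h1]; simp⟩
    set w := Units.map ((Algebra.TensorProduct.includeRight : B →ₐ[k] K ⊗[k] B) : B →* K ⊗[k] B) v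
    have hmem : (w : K ⊗[k] B) ∈ Submonoid.closure F := hgen _ hgl
    have key : ∀ z ∈ Submonoid.closure F, ∀ z' : (K ⊗[k] B)ˣ, (z' : K ⊗[k] B) = z → z' ∈ Subgroup.closure Fu := by
      intro z hz
      induction hz using Submonoid.closure_induction with
      | mem x hx => exact fun z' hz' => Subgroup.subset_closure (by show (z' : K ⊗[k] B) ∈ F; rwa [hz'])
      | one => intro z' hz'; rw [Units.val_eq_one.1 hz']; exact one_mem _
      | mul x y _ _ hx hy =>
        intro z' hz'
        have hu : IsUnit (x * y) := hz' ▸ z'.isUnit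
        obtain ⟨hux, huy⟩ := IsUnit.mul_iff.1 hu
        rw [show z' = hux.unit * huy.unit from Units.ext hz']
        exact mul_mem (hx _ rfl) (hy _ rfl)
    exact key _ hmem w rfl
  have hfgc : Group.FG (Subgroup.closure Fu) := by
    rw [Group.fg_iff_subgroup_fg]
    exact ⟨hFu.toFinset, by simp⟩
  have : Group.FG G := by
    let e := AddSubgroup.toIntSubmodule (Subgroup.toAddSubgroup G)
    let e' := AddSubgroup.toIntSubmodule (Subgroup.toAddSubgroup (Subgroup.closure Fu))
    have h1 : e'.FG := by
      rw [Submodule.fg_iff_addSubgroup_fg]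
      exact (Subgroup.fg_iff_add_fg _).1 ((Group.fg_iff_subgroup_fg _).1 hfgc)
    have h2 : e.FG := by
      have : IsNoetherian ℤ e' := isNoetherian_of_fg_of_noetherian _ h1
      exact Submodule.FG.of_le_of_isNoetherian (show e ≤ e' from fun x hx => hle hx)
    exact (Group.fg_iff_subgroup_fg _).2
      ((Subgroup.fg_iff_add_fg _).2 ((Submodule.fg_iff_addSubgroup_fg e).1 h2))
  have hinj : Function.Injective (Units.map ((Algebra.TensorProduct.includeRight : B →ₐ[k] K ⊗[k] B) : B →* K ⊗[k] B)) :=
    Units.map_injective (Algebra.TensorProduct.includeRight_injective (algebraMap k K).injective)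
  exact Group.fg_of_surjective (f := ((groupLikeUnits k B).equivMapOfInjective _ hinj).symm.toMonoidHom)
    (MulEquiv.surjective _)

end FG

end Groth.Agent.GmDual77
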