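import Groth.Agent.GmDual77.Bialg
import Groth.Agent.GrpSchLib.AffineHopfClosed
import Groth.Prelude.Def_CGrpSh2
import Groth.Prelude.Def_GmPts
import Mathlib.AlgebraicGeometry.Morphisms.FiniteType
import Mathlib.GroupTheory.FiniteAbelian.Basic
import Mathlib.RingTheory.HopfAlgebra.GroupLike

/-!
# Characters of affine commutative group schemes as group-like elements

A morphism of sheaves of points `G ⟶ 𝔾_m` is a homomorphism of group schemes, hence a group-like element
of the Hopf algebra.  Extension of characters along a closed immersion follows from the lifting of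
group-like elements.
-/

universe u

open CategoryTheory CategoryTheory.Limits MonoidalCategory CartesianMonoidalCategory MonObj AlgebraicGeometry Opposite
open Groth.Agent.GrpSchLib Groth.Agent.GrpSchLib.AffineHopf
open TensorProduct WithConv

namespace Groth.Agent.GmDual77

section Yoneda

variable {S : Scheme.{u}} {G H L : Over S} [GrpObj G] [IsCommMonObj G] [GrpObj H] [IsCommMonObj H]
  [GrpObj L] [IsCommMonObj L]

local notation "P" => CGrpSh.pts Scheme.fppfPrecoverage

/-- The morphism of schemes classifying a morphism of sheaves of points. -/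
noncomputable def charOf (α : P G ⟶ P H) : G ⟶ H :=
  (α.hom.app (op G) (ULift.up (Additive.ofMul (𝟙 G)))).down.toMul

theorem app_eq (α : P G ⟶ P H) {T : Over S} (x : T ⟶ G) :
    (α.hom.app (op T) (ULift.up (Additive.ofMul x))).down.toMul = x ≫ charOf α := by
  have h := ConcreteCategory.congr_hom (α.hom.naturality x.op) (ULift.up (Additive.ofMul (𝟙 G)))
  have h1 : (P G).obj.map x.op (ULift.up (Additive.ofMul (𝟙 G))) = ULift.up (Additive.ofMul x) :=
    ULift.ext _ _ (congrArg Additive.ofMul (Category.comp_id x))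
  have h2 : α.hom.app (op T) (ULift.up (Additive.ofMul x)) =
      (P H).obj.map x.op (α.hom.app (op G) (ULift.up (Additive.ofMul (𝟙 G)))) := by
    rw [← h1]; exact h
  exact congrArg (fun y => y.down.toMul) h2

instance isMonHom_charOf (α : P G ⟶ P H) : IsMonHom (charOf α) := by
  have h1 : ∀ T : Over S, (1 : T ⟶ G) ≫ charOf α = 1 := fun T => by
    rw [← app_eq]
    exact congrArg (fun y => y.down.toMul) (map_zero (α.hom.app (op T)).hom)
  have hmul : ∀ (T : Over S) (x y : T ⟶ G), (x * y) ≫ charOf α = (x ≫ charOf α) * (y ≫ charOf α) :=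
    fun T x y => by
      rw [← app_eq, ← app_eq, ← app_eq]
      exact congrArg (fun y => y.down.toMul)
        (map_add (α.hom.app (op T)).hom (ULift.up (Additive.ofMul x)) (ULift.up (Additive.ofMul y)))
  constructor
  · have h := h1 (𝟙_ (Over S))
    rw [Hom.one_def, Hom.one_def, toUnit_unique (toUnit (𝟙_ (Over S))) (𝟙 _), Category.id_comp,
      Category.id_comp] at h
    exact h
  · have h := hmul _ (fst G G) (snd G G)
    rw [Hom.mul_def, Hom.mul_def, lift_fst_snd, Category.id_comp, lift_fst_comp_snd_comp] at h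
    exact h

theorem charOf_ptsMap (f : G ⟶ H) [IsMonHom f] :
    charOf (CGrpSh.ptsMap Scheme.fppfPrecoverage f) = f :=
  Category.id_comp f

theorem charOf_injective : Function.Injective (charOf : (P G ⟶ P H) → (G ⟶ H)) := by
  intro α β h
  refine Sheaf.hom_ext (NatTrans.ext (funext fun T => AddCommGrpCat.ext fun x => ULift.ext _ _ ?_))
  refine Additive.toMul.injective ?_
  exact (app_eq α x.down.toMul).trans ((congrArg (_ ≫ ·) h).trans (app_eq β x.down.toMul).symm)

theorem charOf_add (α β : P G ⟶ P H) : charOf (α + β) = charOf α * charOf β := rfl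

theorem charOf_zero : charOf (0 : P G ⟶ P H) = 1 := rfl

theorem charOf_comp_ptsMap (i : L ⟶ G) [IsMonHom i] (α : P G ⟶ P H) :
    charOf (CGrpSh.ptsMap Scheme.fppfPrecoverage i ≫ α) = i ≫ charOf α := by
  refine (app_eq α (𝟙 L ≫ i)).trans ?_
  rw [Category.id_comp]

theorem charOf_nsmul (α : P G ⟶ P H) : ∀ N : ℕ, charOf (N • α) = charOf α ^ N
  | 0 => by rw [zero_smul, pow_zero, charOf_zero]
  | N + 1 => by rw [succ_nsmul, pow_succ, charOf_add, charOf_nsmul α N]

end Yoneda

section Affine

variable (k : Type u) [Field k]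

local notation "Sk" => Spec (CommRingCat.of k)
local notation "Z" => MonoidAlgebra k (Multiplicative ℤ)

/-- The coordinate of `k[z, z⁻¹]`. -/
noncomputable abbrev zCoord : Z := MonoidAlgebra.single (Multiplicative.ofAdd 1) 1

theorem isGroupLike_zCoord : IsGroupLikeElem k (zCoord k) := MonoidAlgebra.isGroupLikeElem_of _

theorem isMonHom_inv {C : Type*} [Category C] [CartesianMonoidalCategory C] {X Y : C} [MonObj X] [MonObj Y]
    (f : X ⟶ Y) [IsIso f] [IsMonHom f] : IsMonHom (inv f) :=
  inferInstanceAs (IsMonHom (asIso f).inv)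

attribute [local instance] isMonHom_inv

variable {k}

theorem algHom_ext_zCoord {B : Type u} [CommRing B] [Algebra k B] {f g : Z →ₐ[k] B}
    (h : f (zCoord k) = g (zCoord k)) : f = g := by
  refine MonoidAlgebra.algHom_ext (fun m => ?_) (Subsingleton.elim _ _)
  have key : (f : Z →* B).comp (MonoidAlgebra.of _ _) = (g : Z →* B).comp (MonoidAlgebra.of _ _) :=
    MonoidHom.ext_mint h
  exact congrArg (fun φ : Multiplicative ℤ →* B => φ m) key

theorem bialgHom_ext {B : Type u} [CommRing B] [Bialgebra k B] {f g : Z →ₐc[k] B}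
    (h : f (zCoord k) = g (zCoord k)) : f = g := by
  have h' : (f : Z →ₐ[k] B) = (g : Z →ₐ[k] B) := by
    refine MonoidAlgebra.algHom_ext (fun m => ?_) (Subsingleton.elim _ _)
    have key : ((f : Z →ₐ[k] B) : Z →* B).comp (MonoidAlgebra.of _ _) =
        ((g : Z →ₐ[k] B) : Z →* B).comp (MonoidAlgebra.of _ _) := MonoidHom.ext_mint h
    exact congrArg (fun φ : Multiplicative ℤ →* B => φ m) key
  exact DFunLike.ext _ _ fun x => DFunLike.congr_fun h' x

/-- The bialgebra map `z ↦ v` of a group-like unit. -/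
theorem exists_bialgHom_of_groupLike {B : Type u} [CommRing B] [HopfAlgebra k B] {v : B}
    (hv : IsGroupLikeElem k v) : ∃ f : Z →ₐc[k] B, f (zCoord k) = v := by
  let V : Bˣ := ⟨v, HopfAlgebra.antipode k v, hv.mul_antipode_cancel, hv.antipode_mul_cancel⟩
  let f₀ : Z →ₐ[k] B := MonoidAlgebra.lift k B (Multiplicative ℤ) ((Units.coeHom B).comp (zpowersHom Bˣ V))
  have hgl : ∀ m : Multiplicative ℤ, IsGroupLikeElem k (f₀ (MonoidAlgebra.of k _ m)) := fun m => by
    have h : f₀ (MonoidAlgebra.of k _ m) = ((V ^ m.toAdd : Bˣ) : B) := by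
      simp [f₀, MonoidAlgebra.lift_of]
    rw [h]
    exact (groupLikeUnits k B).zpow_mem (show V ∈ groupLikeUnits k B from hv) _
  refine ⟨BialgHom.ofAlgHom f₀
    (MonoidAlgebra.algHom_ext (fun m => by
      have := (hgl m).counit_eq_one
      simpa using this) (Subsingleton.elim _ _))
    (MonoidAlgebra.algHom_ext (fun m => by
      have := (hgl m).comul_eq_tmul_self
      simp only [MonoidAlgebra.of_apply] at this ⊢
      simp [this]) (Subsingleton.elim _ _)), ?_⟩
  show f₀ (zCoord k) = v
  simp [f₀, V]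

variable (k)

theorem gmIso : ∃ (e : sp k Z ⟶ Red.Gm Sk) (_ : IsMonHom e), IsIso e := by
  obtain ⟨e⟩ := nonempty_DS_iso k ℤ
  exact ⟨e.hom.hom.hom, e.hom.hom.isMonHom_hom, inferInstanceAs (IsIso ((Grp.forget _).map e.hom))⟩

variable {k}

/-- The Hopf algebra of an affine commutative group of finite type. -/
theorem exists_model (G : Over Sk) [GrpObj G] [IsCommMonObj G] [IsAffine G.left] [LocallyOfFiniteType G.hom] :
    ∃ (A : Type u) (_ : CommRing A) (_ : HopfAlgebra k A) (e : sp k A ⟶ G) (_ : IsMonHom e) (_ : IsIso e),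
      Coalgebra.IsCocomm k A ∧ Algebra.FiniteType k A := by
  obtain ⟨A, _, _, ⟨eG⟩⟩ := exists_hopf G
  have he : IsMonHom eG.hom.hom.hom := eG.hom.hom.isMonHom_hom
  have hi : IsIso eG.hom.hom.hom := inferInstanceAs (IsIso ((Grp.forget _).map eG.hom))
  refine ⟨A, _, _, eG.hom.hom.hom, he, hi, ?_, ?_⟩
  · let e := eG.hom.hom.hom
    let l : A →ₐ[k] A ⊗[k] A := Algebra.TensorProduct.includeLeft
    let r : A →ₐ[k] A ⊗[k] A := Algebra.TensorProduct.includeRight
    have h : (toConv l * toConv r).ofConv = (toConv r * toConv l).ofConv := by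
      apply spMap_injective
      rw [← spMap_mul, ← spMap_mul, ← cancel_mono e, MonObj.mul_comp, MonObj.mul_comp, mul_comm]
    constructor
    refine LinearMap.ext fun a => ?_
    have h' := AlgHom.congr_fun h a
    simp only [AlgHom.convMul_apply] at h'
    have key : ∀ z : A ⊗[k] A, Algebra.TensorProduct.lift l r (fun _ _ => Commute.all _ _) z = z := fun z => by
      induction z using TensorProduct.induction_on with
      | zero => simp
      | tmul p q => simp [l, r]
      | add p q hp hq => simp only [map_add, hp, hq]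
    have key' : ∀ z : A ⊗[k] A,
        Algebra.TensorProduct.lift r l (fun _ _ => Commute.all _ _) z = TensorProduct.comm k A A z := fun z => by
      induction z using TensorProduct.induction_on with
      | zero => simp
      | tmul p q => simp [l, r]
      | add p q hp hq => simp only [map_add, hp, hq]
    show TensorProduct.comm k A A (Coalgebra.comul (R := k) a) = Coalgebra.comul (R := k) a
    refine (key' _).symm.trans (Eq.trans ?_ (key _))
    convert h'.symm using 1
  · have h1 : LocallyOfFiniteType (sp k A).hom := by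
      rw [← Over.w eG.hom.hom.hom]
      have : IsIso eG.hom.hom.hom.left := inferInstanceAs (IsIso ((Over.forget _).map eG.hom.hom.hom))
      infer_instance
    exact RingHom.finiteType_algebraMap.1 ((HasRingHomProperty.Spec_iff (P := @LocallyOfFiniteType)).1 h1)

variable {B : Type u} [CommRing B] [HopfAlgebra k B]

/-- A homomorphism `sp B ⟶ 𝔾_m` and the image of the coordinate. -/
theorem exists_elem (g : sp k Z ⟶ Red.Gm Sk) [IsMonHom g] [IsIso g] {H : Over Sk} [GrpObj H]
    (e : sp k B ⟶ H) [IsMonHom e] (f : H ⟶ Red.Gm Sk) [IsMonHom f] :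
    ∃ ψ : Z →ₐc[k] B, IsGroupLikeElem k (ψ (zCoord k)) ∧ spMap (ψ : Z →ₐ[k] B) ≫ g = e ≫ f := by
  obtain ⟨ψ, hψ⟩ := exists_bialgHom (e ≫ f ≫ inv g)
  refine ⟨ψ, (isGroupLike_zCoord k).map ψ, ?_⟩
  rw [← hψ]
  simp

theorem spMap_mul_zCoord (ψ₁ ψ₂ ψ : Z →ₐc[k] B)
    (h : spMap (ψ : Z →ₐ[k] B) = spMap (ψ₁ : Z →ₐ[k] B) * spMap (ψ₂ : Z →ₐ[k] B)) :
    ψ (zCoord k) = ψ₁ (zCoord k) * ψ₂ (zCoord k) := by
  rw [spMap_mul] at h
  have h' := AlgHom.congr_fun (spMap_injective h) (zCoord k)
  rw [AlgHom.convMul_apply] at h'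
  rw [show ψ (zCoord k) = (ψ : Z →ₐ[k] B) (zCoord k) from rfl, h', (isGroupLike_zCoord k).comul_eq_tmul_self]
  simp

variable (H : Over (Spec (CommRingCat.of k))) [GrpObj H] [IsCommMonObj H] [IsAffine H.left] [LocallyOfFiniteType H.hom]

/-- The characters of an affine commutative group of finite type form a finitely generated group. -/
theorem fg_characters :
    AddGroup.FG (CGrpSh.pts Scheme.fppfPrecoverage H ⟶ CGrpSh2.Gm Scheme.fppfPrecoverage (Spec (CommRingCat.of k))) := by
  obtain ⟨B, _, _, e, _, _, _, _⟩ := exists_model H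
  obtain ⟨g, _, _⟩ := gmIso k
  choose ψ hψgl hψ using fun α : CGrpSh.pts Scheme.fppfPrecoverage H ⟶
    CGrpSh2.Gm Scheme.fppfPrecoverage (Spec (CommRingCat.of k)) => exists_elem g e (charOf α)
  let val : (CGrpSh.pts Scheme.fppfPrecoverage H ⟶ CGrpSh2.Gm Scheme.fppfPrecoverage (Spec (CommRingCat.of k))) →
      groupLikeUnits k B := fun α =>
    ⟨⟨ψ α (zCoord k), HopfAlgebra.antipode k (ψ α (zCoord k)), (hψgl α).mul_antipode_cancel,
      (hψgl α).antipode_mul_cancel⟩, hψgl α⟩
  have hadd : ∀ α β, ψ (α + β) (zCoord k) = ψ α (zCoord k) * ψ β (zCoord k) := fun α β => by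
    refine spMap_mul_zCoord _ _ _ ?_
    have : IsMonHom g := inferInstance
    rw [← cancel_mono g, MonObj.mul_comp _ _ g, hψ, hψ, hψ, charOf_add, MonObj.comp_mul]
  let Φ := AddMonoidHom.mk' (fun α => Additive.ofMul (val α))
    (fun α β => congrArg Additive.ofMul (Subtype.ext (Units.ext (hadd α β))))
  have hinj : Function.Injective Φ := fun α β h => by
    apply charOf_injective
    have h1 : ψ α = ψ β := bialgHom_ext (congrArg (fun v => ((Additive.toMul v : groupLikeUnits k B) : Bˣ).val) h)
    rw [← cancel_epi e, ← hψ, ← hψ, h1]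
  have hG : Group.FG (groupLikeUnits k B) := fg_groupLike
  have : Module.Finite ℤ (Additive (groupLikeUnits k B)) :=
    Module.Finite.iff_addGroup_fg.2 (GroupFG.iff_add_fg.1 hG)
  have := Module.Finite.of_injective Φ.toIntLinearMap hinj
  exact Module.Finite.iff_addGroup_fg.1 this

variable (G : Over (Spec (CommRingCat.of k))) [GrpObj G] [IsCommMonObj G] [IsAffine G.left] [LocallyOfFiniteType G.hom]

/-- Extension of characters along a closed immersion, up to a positive multiple. -/
theorem exists_extension (i : H ⟶ G) [IsMonHom i] [IsClosedImmersion i.left]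
    (α : CGrpSh.pts Scheme.fppfPrecoverage H ⟶ CGrpSh2.Gm Scheme.fppfPrecoverage (Spec (CommRingCat.of k))) :
    ∃ (N : ℕ) (γ : CGrpSh.pts Scheme.fppfPrecoverage G ⟶ CGrpSh2.Gm Scheme.fppfPrecoverage (Spec (CommRingCat.of k))),
      0 < N ∧ (IsAlgClosed k → N = 1) ∧ CGrpSh.ptsMap Scheme.fppfPrecoverage i ≫ γ = N • α := by
  obtain ⟨B, _, _, eH, _, _, _, _⟩ := exists_model H
  obtain ⟨A, _, _, eG, _, _, _, _⟩ := exists_model G
  obtain ⟨g, _, _⟩ := gmIso k
  obtain ⟨π, hπ⟩ := exists_bialgHom (eH ≫ i ≫ inv eG)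
  have hsurj : Function.Surjective π := by
    refine surjective_of_isClosedImmersion (π : A →ₐ[k] B) ?_
    rw [← hπ]
    have : IsIso eH.left := inferInstanceAs (IsIso ((Over.forget _).map eH))
    have : IsIso (inv eG).left := inferInstanceAs (IsIso ((Over.forget _).map (inv eG)))
    show IsClosedImmersion (eH.left ≫ i.left ≫ (inv eG).left)
    infer_instance
  obtain ⟨ψ, hψgl, hψ⟩ := exists_elem g eH (charOf α)
  obtain ⟨N, c, hN, hN1, hc, hπc⟩ := exists_pow_lift π hsurj hψgl
  obtain ⟨χ, hχ⟩ := exists_bialgHom_of_groupLike hc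
  let f : G ⟶ Red.Gm Sk := inv eG ≫ spMap (χ : Z →ₐ[k] A) ≫ g
  have : IsMonHom f := inferInstance
  refine ⟨N, CGrpSh.ptsMap Scheme.fppfPrecoverage f, hN, hN1, charOf_injective ?_⟩
  rw [charOf_comp_ptsMap, charOf_ptsMap, charOf_nsmul, ← cancel_epi eH, MonObj.comp_pow, ← hψ, ← MonObj.pow_comp]
  have hi : eH ≫ i = spMap (π : A →ₐ[k] B) ≫ eG := by rw [← hπ]; simp
  rw [← Category.assoc, hi, Category.assoc, IsIso.hom_inv_id_assoc, ← Category.assoc, spMap_comp, cancel_mono]
  have hpow : ∀ n : ℕ, ∀ φ : Z →ₐc[k] B, φ (zCoord k) = ψ (zCoord k) ^ n →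
      spMap (φ : Z →ₐ[k] B) = spMap (ψ : Z →ₐ[k] B) ^ n := by
    intro n
    induction n with
    | zero =>
      intro φ hφ
      rw [pow_zero, spMap_eq_mapMulEquiv, ← map_one Spec.mapMulEquiv]
      congr 2
      refine MonoidAlgebra.algHom_ext (fun m => ?_) (Subsingleton.elim _ _)
      have key : ((φ : Z →ₐ[k] B) : Z →* B).comp (MonoidAlgebra.of _ _) =
          (((1 : WithConv (Z →ₐ[k] B)).ofConv) : Z →* B).comp (MonoidAlgebra.of _ _) :=
        MonoidHom.ext_mint (hφ.trans (by simp [zCoord]))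
      exact congrArg (fun φ : Multiplicative ℤ →* B => φ m) key
    | succ n ih =>
      intro φ hφ
      obtain ⟨φ', hφ'⟩ := exists_bialgHom_of_groupLike (hψgl.pow (n := n))
      rw [pow_succ, ← ih φ' hφ', spMap_mul]
      congr 1
      apply algHom_ext_zCoord
      rw [AlgHom.convMul_apply, (isGroupLike_zCoord k).comul_eq_tmul_self]
      simp [hφ, hφ', pow_succ]
  exact hpow N (π.comp χ) (by show π (χ (zCoord k)) = _; rw [hχ, hπc])

end Affine

end Groth.Agent.GmDual77
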