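import Groth.Agent.GmDual77.Dual

/-!
# Double duality along a short exact sequence
-/

set_option autoImplicit false
set_option backward.isDefEq.respectTransparency.types false

universe u

open CategoryTheory CategoryTheory.Limits Opposite

noncomputable section

namespace Groth.Agent.GmDual77.Dual

variable {C : Type (u + 1)} [Category.{u} C] {J : GrothendieckTopology C} [HasSheafify J AddCommGrpCat.{u + 1}]
  [J.WEqualsLocallyBijective AddCommGrpCat.{u + 1}]

theorem bidual_natural {F G : Sheaf J AddCommGrpCat.{u + 1}} (M : Sheaf J AddCommGrpCat.{u + 1}) (α : F ⟶ G) :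
    α ≫ HomSh.bidualMap J G M =
      HomSh.bidualMap J F M ≫ HomSh.homShMap J (HomSh.homShMap J α (𝟙 M)) (𝟙 M) := by
  refine Sheaf.hom_ext (NatTrans.ext (funext fun X => AddCommGrpCat.ext fun s => ?_))
  refine Sheaf.hom_ext (NatTrans.ext (funext fun U => AddCommGrpCat.ext fun φ => ?_))
  exact congrArg (HomSh.ev J φ) (ConcreteCategory.congr_hom (α.hom.naturality (unop U).hom.op) s).symm

variable [HasInjectiveResolutions (Sheaf J AddCommGrpCat.{u + 1})] (S : ShortComplex (Sheaf J AddCommGrpCat.{u + 1}))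
  (M : Sheaf J AddCommGrpCat.{u + 1})

/-- The map of a sequence to its double dual. -/
abbrev toBidual : S ⟶ dualCx (dualCx S M) M :=
  ShortComplex.Hom.mk (HomSh.bidualMap J S.X₁ M) (HomSh.bidualMap J S.X₂ M) (HomSh.bidualMap J S.X₃ M)
    (bidual_natural M S.f).symm (bidual_natural M S.g).symm

theorem isIso_bidual (hS : S.ShortExact) (h : IsZero ((HomSh.extSh J S.X₃ 1).obj M))
    (h₁ : IsIso (HomSh.bidualMap J S.X₁ M)) (h₃ : IsIso (HomSh.bidualMap J S.X₃ M)) :
    IsIso (HomSh.bidualMap J S.X₂ M) := by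
  have hD := shortExact_dual S M hS h
  haveI := hD.epi_g
  haveI := hS.epi_g
  have hexact := exact_dual (dualCx S M) M hD.exact
  haveI := mono_dual (dualCx S M) M
  have he : (toBidual S M).τ₂ ≫ (dualCx (dualCx S M) M).g = S.g ≫ (toBidual S M).τ₃ := (toBidual S M).comm₂₃
  haveI : IsIso (toBidual S M).τ₁ := h₁
  haveI : IsIso (toBidual S M).τ₃ := h₃
  haveI : Epi (dualCx (dualCx S M) M).g := by
    haveI : Epi ((toBidual S M).τ₂ ≫ (dualCx (dualCx S M) M).g) := by
      rw [he]
      exact epi_comp _ _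
    exact epi_of_epi (toBidual S M).τ₂ _
  have hDD : (dualCx (dualCx S M) M).ShortExact :=
    { exact := hexact, mono_f := inferInstance, epi_g := inferInstance }
  exact ShortComplex.isIso₂_of_shortExact_of_isIso₁₃ (toBidual S M) hS hDD

end Groth.Agent.GmDual77.Dual
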