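import Groth.Agent.GmDual77.CofreeBig
import Groth.Agent.SiteBase.AbSecExact
import Groth.Prelude.Def_CGrpSh2
import Mathlib.Algebra.Homology.ShortComplex.ShortExact

/-!
# Exactness of the internal dual of a short exact sequence of abelian sheaves
-/

set_option autoImplicit false
set_option backward.isDefEq.respectTransparency.types false

universe u

open CategoryTheory CategoryTheory.Limits Opposite

noncomputable section

namespace Groth.Agent.GmDual77.Dual

variable {C : Type (u + 1)} [Category.{u} C] (J : GrothendieckTopology C) [HasSheafify J AddCommGrpCat.{u + 1}]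
  [J.WEqualsLocallyBijective AddCommGrpCat.{u + 1}]

variable (X : C)

theorem preservesFiniteColimits_over : PreservesFiniteColimits (J.overPullback AddCommGrpCat.{u + 1} X) :=
  ⟨fun _ _ _ => ((Over.forget X).sheafAdjunctionCocontinuous AddCommGrpCat.{u + 1} (J.over X) J).leftAdjoint_preservesColimits.preservesColimitsOfShape⟩

theorem preservesFiniteLimits_over : PreservesFiniteLimits (J.overPullback AddCommGrpCat.{u + 1} X) := by
  haveI : PreservesFiniteLimits (J.overPullback AddCommGrpCat.{u + 1} X ⋙ sheafToPresheaf (J.over X) AddCommGrpCat.{u + 1}) :=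
    inferInstanceAs (PreservesFiniteLimits (sheafToPresheaf J AddCommGrpCat.{u + 1} ⋙
      (Functor.whiskeringLeft (Over X)ᵒᵖ Cᵒᵖ AddCommGrpCat.{u + 1}).obj (Over.forget X).op))
  exact preservesFiniteLimits_of_reflects_of_preserves _ (sheafToPresheaf (J.over X) AddCommGrpCat.{u + 1})

variable {J}

theorem mono_over {F G : Sheaf J AddCommGrpCat.{u + 1}} (f : F ⟶ G) [Mono f] : Mono ((J.overPullback AddCommGrpCat.{u + 1} X).map f) := by
  haveI := preservesFiniteLimits_over J X
  infer_instance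

theorem epi_over {F G : Sheaf J AddCommGrpCat.{u + 1}} (f : F ⟶ G) [Epi f] : Epi ((J.overPullback AddCommGrpCat.{u + 1} X).map f) := by
  haveI := preservesFiniteColimits_over J X
  infer_instance

theorem exact_over {S : ShortComplex (Sheaf J AddCommGrpCat.{u + 1})} (hS : S.Exact) : (S.map (J.overPullback AddCommGrpCat.{u + 1} X)).Exact := by
  haveI := preservesFiniteLimits_over J X
  haveI := preservesFiniteColimits_over J X
  exact hS.map _

/-- AddCommGrpCat.{u + 1} complex is exact if it is exact on all sections. -/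
theorem exact_of_sections {S : ShortComplex (Sheaf J AddCommGrpCat.{u + 1})}
    (h : ∀ (U : C) (x : S.X₂.obj.obj (op U)), S.g.hom.app (op U) x = 0 → ∃ y, S.f.hom.app (op U) y = x) :
    S.Exact := by
  rw [ShortComplex.exact_iff_epi_kernel_lift]
  refine (Sheaf.isLocallySurjective_iff_epi' (A := AddCommGrpCat.{u + 1}) _).1 ⟨fun {V} z => ?_⟩
  refine J.superset_covering (fun W f _ => ?_) (J.top_mem V)
  have h0 : S.g.hom.app (op W) ((kernel.ι S.g).hom.app (op W) ((kernel S.g).obj.map f.op z)) = 0 := by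
    have : (kernel.ι S.g ≫ S.g).hom.app (op W) ((kernel S.g).obj.map f.op z) = 0 := by
      rw [kernel.condition]
      rfl
    exact this
  obtain ⟨y, hy⟩ := h W _ h0
  refine ⟨y, SiteBase.sheaf_app_injective (kernel.ι S.g) W ?_⟩
  have e : (kernel.lift S.g S.f S.zero ≫ kernel.ι S.g).hom.app (op W) y =
      (kernel.ι S.g).hom.app (op W) ((kernel S.g).obj.map f.op z) := by
    rw [kernel.lift_ι]
    exact hy
  exact e

/-- The image of an exact complex is locally everything killed by the second map. -/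
theorem exists_local_preimage {S : ShortComplex (Sheaf J AddCommGrpCat.{u + 1})} (hS : S.Exact) {U : C} (x : S.X₂.obj.obj (op U))
    (hx : S.g.hom.app (op U) x = 0) :
    ∃ R : Sieve U, R ∈ J U ∧ ∀ ⦃V : C⦄ (i : V ⟶ U), R i → ∃ y, S.f.hom.app (op V) y = S.X₂.obj.map i.op x := by
  obtain ⟨z, rfl⟩ := SiteBase.exists_kernel_section S U x hx
  haveI := hS.epi_kernelLift
  haveI : Sheaf.IsLocallySurjective (kernel.lift S.g S.f S.zero) :=
    (Sheaf.isLocallySurjective_iff_epi' (A := AddCommGrpCat.{u + 1}) _).2 inferInstance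
  refine ⟨_, Presheaf.imageSieve_mem J (kernel.lift S.g S.f S.zero).hom (U := op U) z, fun V i hi => ?_⟩
  obtain ⟨y, hy⟩ := hi
  refine ⟨y, ?_⟩
  have e : (kernel.lift S.g S.f S.zero ≫ kernel.ι S.g).hom.app (op V) y =
      S.X₂.obj.map i.op ((kernel.ι S.g).hom.app (op U) z) := by
    refine (congrArg ((kernel.ι S.g).hom.app (op V)) hy).trans ?_
    exact ConcreteCategory.congr_hom ((kernel.ι S.g).hom.naturality i.op) z
  rwa [kernel.lift_ι] at e

variable (S : ShortComplex (Sheaf J AddCommGrpCat.{u + 1})) (M : Sheaf J AddCommGrpCat.{u + 1})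

/-- The dual complex. -/
abbrev dualCx : ShortComplex (Sheaf J AddCommGrpCat.{u + 1}) := S.op.map ((HomSh.homShBi J).flip.obj M)

theorem dual_apply_f {U : C} (φ : (HomSh.homSh J S.X₃ M).obj.obj (op U)) :
    (dualCx S M).f.hom.app (op U) φ = (J.overPullback AddCommGrpCat.{u + 1} U).map S.g ≫ φ := by
  change (HomSh.homShMap J S.g (𝟙 M)).hom.app (op U) φ = _
  rw [HomSh.homShMap_app_apply, CategoryTheory.Functor.map_id]
  exact congrArg ((J.overPullback AddCommGrpCat.{u + 1} U).map S.g ≫ ·) (Category.comp_id φ)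

theorem dual_apply_g {U : C} (φ : (HomSh.homSh J S.X₂ M).obj.obj (op U)) :
    (dualCx S M).g.hom.app (op U) φ = (J.overPullback AddCommGrpCat.{u + 1} U).map S.f ≫ φ := by
  change (HomSh.homShMap J S.f (𝟙 M)).hom.app (op U) φ = _
  rw [HomSh.homShMap_app_apply, CategoryTheory.Functor.map_id]
  exact congrArg ((J.overPullback AddCommGrpCat.{u + 1} U).map S.f ≫ ·) (Category.comp_id φ)

theorem mono_dual [Epi S.g] : Mono (dualCx S M).f := by
  haveI : Mono (dualCx S M).f.hom := by
    haveI : ∀ U, Mono ((dualCx S M).f.hom.app U) := fun U => by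
      refine (AddCommGrpCat.mono_iff_injective _).2 fun φ ψ h => ?_
      haveI := epi_over (unop U) S.g
      refine (cancel_epi ((J.overPullback AddCommGrpCat.{u + 1} (unop U)).map S.g)).1 ?_
      exact (dual_apply_f S M φ).symm.trans (h.trans (dual_apply_f S M ψ))
    exact NatTrans.mono_of_mono_app _
  exact (sheafToPresheaf J AddCommGrpCat.{u + 1}).mono_of_mono_map (f := (dualCx S M).f) this

theorem exact_dual (hS : S.Exact) [Epi S.g] : (dualCx S M).Exact := by
  refine exact_of_sections fun U φ hφ => ?_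
  haveI := epi_over U S.g
  haveI : Epi (S.map (J.overPullback AddCommGrpCat.{u + 1} U)).g := epi_over U S.g
  have h0 : (J.overPullback AddCommGrpCat.{u + 1} U).map S.f ≫ φ = 0 := (dual_apply_g S M φ).symm.trans hφ
  refine ⟨(exact_over U hS).desc φ h0, (dual_apply_f S M _).trans ?_⟩
  exact (exact_over U hS).g_desc φ h0

variable [HasInjectiveResolutions (Sheaf J AddCommGrpCat.{u + 1})]

theorem exact_of_isZero_ext (F : Sheaf J AddCommGrpCat.{u + 1}) (I : InjectiveResolution M)
    (h : IsZero ((HomSh.extSh J F 1).obj M)) :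
    (((HomSh.homShFunctor J F).mapHomologicalComplex (ComplexShape.up ℕ)).obj I.cocomplex).sc' 0 1 2 |>.Exact := by
  rw [HomSh.extSh_def] at h
  have h1 := h.of_iso (I.isoRightDerivedObj (HomSh.homShFunctor J F) 1).symm
  rw [HomologicalComplex.homologyFunctor_obj, ← HomologicalComplex.exactAt_iff_isZero_homology] at h1
  exact (HomologicalComplex.exactAt_iff' _ 0 1 2 (by simp) (by simp)).1 h1

/-- Characters extend locally when the first Ext sheaf of the quotient vanishes. -/
theorem epi_dual (hS : S.ShortExact) (h : IsZero ((HomSh.extSh J S.X₃ 1).obj M)) :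
    Epi (dualCx S M).g := by
  haveI := hS.mono_f
  haveI := hS.epi_g
  let I : InjectiveResolution M := Classical.choice (HasInjectiveResolution.out (Z := M))
  refine (Sheaf.isLocallySurjective_iff_epi' (A := AddCommGrpCat.{u + 1}) _).1 ⟨fun {U} χ => ?_⟩
  let ι0 : M ⟶ I.cocomplex.X 0 := I.ι.f 0
  have ι0d : ι0 ≫ I.cocomplex.d 0 1 = 0 := I.ι_f_zero_comp_complex_d
  haveI : Mono ι0 := inferInstanceAs (Mono (I.ι.f 0))
  let ov := J.overPullback AddCommGrpCat.{u + 1} U
  haveI : Injective (ov.obj (I.cocomplex.X 0)) := CofreeBig.injective_over U (I.cocomplex.X 0)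
  haveI : Mono (ov.map S.f) := mono_over U S.f
  let χ₁ : S.X₁.over U ⟶ M.over U := χ
  let ext₀ : ov.obj S.X₂ ⟶ ov.obj (I.cocomplex.X 0) :=
    Injective.factorThru (χ₁ ≫ ov.map ι0) (ov.map S.f)
  have he : ov.map S.f ≫ ext₀ = χ₁ ≫ ov.map ι0 := Injective.comp_factorThru _ _
  have hkill : ov.map S.f ≫ ext₀ ≫ ov.map (I.cocomplex.d 0 1) = 0 := by
    rw [reassoc_of% he, ← Functor.map_comp, ι0d, Functor.map_zero, comp_zero]
  haveI : Epi (S.map ov).g := epi_over U S.g
  let η : ov.obj S.X₃ ⟶ ov.obj (I.cocomplex.X 1) := (exact_over U hS.exact).desc _ hkill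
  have hη : ov.map S.g ≫ η = ext₀ ≫ ov.map (I.cocomplex.d 0 1) := (exact_over U hS.exact).g_desc _ hkill
  have hη2 : η ≫ ov.map (I.cocomplex.d 1 2) = 0 := by
    haveI := epi_over U S.g
    rw [← cancel_epi (ov.map S.g), reassoc_of% hη, ← Functor.map_comp, I.cocomplex.d_comp_d, Functor.map_zero,
      comp_zero, comp_zero]
  have happ : ∀ (V : C) (i j : ℕ) (φ : (HomSh.homSh J S.X₃ (I.cocomplex.X i)).obj.obj (op V)),
      ((((HomSh.homShFunctor J S.X₃).mapHomologicalComplex (ComplexShape.up ℕ)).obj I.cocomplex).d i j).hom.app (op V) φ =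
        φ ≫ (J.overPullback AddCommGrpCat.{u + 1} V).map (I.cocomplex.d i j) := fun V i j φ => by
    change (HomSh.homShMap J (𝟙 S.X₃) (I.cocomplex.d i j)).hom.app (op V) φ = _
    rw [HomSh.homShMap_app_apply, CategoryTheory.Functor.map_id]
    exact Category.id_comp _
  obtain ⟨R, hR, hRy⟩ := exists_local_preimage (exact_of_isZero_ext M S.X₃ I h) (U := U) η
    ((happ U 1 2 η).trans hη2)
  refine J.superset_covering (fun V i hi => ?_) hR
  obtain ⟨θ, hθ⟩ := hRy i hi
  let ov' := J.overPullback AddCommGrpCat.{u + 1} V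
  let res : ∀ {P Q : Sheaf J AddCommGrpCat.{u + 1}}, (P.over U ⟶ Q.over U) → (P.over V ⟶ Q.over V) := fun φ =>
    (J.overMapPullback AddCommGrpCat.{u + 1} i).map φ
  let θ₁ : S.X₃.over V ⟶ (I.cocomplex.X 0).over V := θ
  have hθ' : θ₁ ≫ ov'.map (I.cocomplex.d 0 1) = res η := (happ V 0 1 θ).symm.trans hθ
  let ext₁ : ov'.obj S.X₂ ⟶ ov'.obj (I.cocomplex.X 0) := res ext₀ - ov'.map S.g ≫ θ₁
  have hg' : ov'.map S.g ≫ res η = res ext₀ ≫ ov'.map (I.cocomplex.d 0 1) :=
    congrArg (fun φ => res φ) hη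
  have hd : ext₁ ≫ ov'.map (I.cocomplex.d 0 1) = 0 := by
    rw [Preadditive.sub_comp, Category.assoc, hθ', hg', sub_self]
  haveI : Mono (ov'.map ι0) := mono_over V ι0
  let K := ShortComplex.mk ι0 (I.cocomplex.d 0 1) ι0d
  have hK : K.Exact := ShortComplex.exact_of_f_is_kernel _ I.isLimitKernelFork
  haveI : Mono (K.map ov').f := mono_over V ι0
  let ψ : ov'.obj S.X₂ ⟶ ov'.obj M := (exact_over V hK).lift ext₁ hd
  have hψ : ψ ≫ ov'.map ι0 = ext₁ := (exact_over V hK).lift_f ext₁ hd
  refine ⟨ψ, (dual_apply_g S M ψ).trans ((cancel_mono (ov'.map ι0)).1 ?_)⟩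
  have he' : ov'.map S.f ≫ res ext₀ = res χ₁ ≫ ov'.map ι0 := congrArg (fun φ => res φ) he
  refine (Category.assoc _ _ _).trans ((congrArg (ov'.map S.f ≫ ·) hψ).trans ?_)
  change ov'.map S.f ≫ (res ext₀ - ov'.map S.g ≫ θ₁) = _
  rw [Preadditive.comp_sub, ← Category.assoc, ← Functor.map_comp, S.zero, Functor.map_zero, zero_comp, sub_zero, he']
  rfl

theorem shortExact_dual (hS : S.ShortExact) (h : IsZero ((HomSh.extSh J S.X₃ 1).obj M)) :
    (dualCx S M).ShortExact := by
  haveI := hS.epi_g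
  exact { exact := exact_dual S M hS.exact, mono_f := mono_dual S M, epi_g := epi_dual S M hS h }

end Groth.Agent.GmDual77.Dual
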