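import Groth.Agent.GmDual77.Norm

/-! A finite flat morphism to a locally Noetherian scheme has locally free functions. -/

set_option autoImplicit false
set_option linter.style.haveILetI false

universe u

open CategoryTheory CategoryTheory.Limits AlgebraicGeometry Opposite TopologicalSpace

noncomputable section

namespace Groth.Agent.GmDual77.Norm

theorem exists_free_away {R B : Type u} [CommRing R] [CommRing B] [Algebra R B] [Module.Finite R B]
    [Module.Flat R B] [Module.FinitePresentation R B] (P : PrimeSpectrum R) :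
    ∃ g : R, g ∉ P.asIdeal ∧ ∀ (R' B' : Type u) [CommRing R'] [CommRing B'] [Algebra R R'] [Algebra B B']
      [Algebra R' B'] [Algebra R B'] [IsScalarTower R R' B'] [IsScalarTower R B B'] [IsLocalization.Away g R']
      [Algebra.IsPushout R R' B B'], Module.Free R' B' ∧ Module.Finite R' B' := by
  have hP : P ∈ Module.freeLocus R B := by rw [Module.freeLocus_eq_univ]; trivial
  haveI : Module.Free (Localization.AtPrime P.asIdeal) (LocalizedModule P.asIdeal.primeCompl B) := hP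
  obtain ⟨g, hg, hfree, -⟩ := Module.FinitePresentation.exists_free_localizedModule_powers
    P.asIdeal.primeCompl (LocalizedModule.mkLinearMap P.asIdeal.primeCompl B)
    (Localization.AtPrime P.asIdeal)
  refine ⟨g, hg, fun R' B' _ _ _ _ _ _ _ _ _ hpo => ?_⟩
  let L := Localization (Submonoid.powers g)
  let e : L ≃ₐ[R] R' := IsLocalization.algEquiv (Submonoid.powers g) L R'
  letI : Algebra L R' := (e : L →+* R').toAlgebra
  letI : Algebra L B' := ((algebraMap R' B').comp (e : L →+* R')).toAlgebra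
  haveI : IsScalarTower R L R' := IsScalarTower.of_algebraMap_eq fun r => (e.commutes r).symm
  haveI : IsScalarTower L R' B' := IsScalarTower.of_algebraMap_eq fun _ => rfl
  haveI : IsScalarTower R L B' := IsScalarTower.of_algebraMap_eq fun r => by
    rw [RingHom.algebraMap_toAlgebra, RingHom.comp_apply, IsScalarTower.algebraMap_apply R R' B']
    exact congrArg _ (e.commutes r).symm
  have ibc₁ : IsBaseChange L (LocalizedModule.mkLinearMap (Submonoid.powers g) B) :=
    IsLocalizedModule.isBaseChange (Submonoid.powers g) L _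
  have ibc₂ := hpo.out
  let γ := ibc₁.lift (IsScalarTower.toAlgHom R B B').toLinearMap
  have ibc₃ : IsBaseChange R' γ := by
    refine IsBaseChange.of_comp ibc₁ ?_
    convert ibc₂ using 1
    exact ibc₁.lift_comp _
  haveI : Module.Free L (LocalizedModule (Submonoid.powers g) B) := hfree
  refine ⟨IsBaseChange.free ibc₃, ?_⟩
  exact Module.Finite.equiv ibc₂.equiv

variable {X S : Scheme.{u}} (p : X ⟶ S) [IsFinite p] [Flat p] [IsLocallyNoetherian S]

theorem locGood_of_finite_flat : LocGood p := fun s => by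
  obtain ⟨_, ⟨U, hU, rfl⟩, hsU, -⟩ :=
    S.isBasis_affineOpens.exists_subset_of_mem_open (Set.mem_univ s) isOpen_univ
  haveI : IsNoetherianRing Γ(S, U) := IsLocallyNoetherian.component_noetherian ⟨U, hU⟩
  algebraize [(p.app U).hom]
  haveI : Module.Finite Γ(S, U) Γ(X, p ⁻¹ᵁ U) := RingHom.finite_algebraMap.1 (p.finite_app U hU)
  haveI : Module.Flat Γ(S, U) Γ(X, p ⁻¹ᵁ U) := by
    rw [← RingHom.flat_algebraMap_iff, RingHom.algebraMap_toAlgebra]
    exact Scheme.Hom.app_eq_appLE p ▸ p.flat_appLE hU (hU.preimage p) le_rfl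
  haveI : Module.FinitePresentation Γ(S, U) Γ(X, p ⁻¹ᵁ U) := Module.finitePresentation_of_finite _ _
  obtain ⟨g, hg, hfree⟩ := exists_free_away (R := Γ(S, U)) (B := Γ(X, p ⁻¹ᵁ U))
    (hU.primeIdealOf ⟨s, hsU⟩)
  have hsg : s ∈ S.basicOpen g := by
    have hh := hU.fromSpec_preimage_basicOpen g
    have h1 : hU.fromSpec (hU.primeIdealOf ⟨s, hsU⟩) = s := hU.fromSpec_primeIdealOf ⟨s, hsU⟩
    rw [← h1]
    change hU.primeIdealOf ⟨s, hsU⟩ ∈ hU.fromSpec ⁻¹ᵁ S.basicOpen g
    rw [hh]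
    exact hg
  let W := S.basicOpen g
  have hle : W ≤ U := S.basicOpen_le g
  have hWaff : IsAffineOpen W := hU.basicOpen g
  have H : IsPullback (𝟙 X) p p (𝟙 S) := IsPullback.of_id_fst
  have hUY : p ⁻¹ᵁ W = (𝟙 X : X ⟶ X) ⁻¹ᵁ (p ⁻¹ᵁ U) ⊓ p ⁻¹ᵁ W := (inf_eq_right.2 (p.preimage_mono hle)).symm
  have := isIso_pushoutSection_of_isAffineOpen H (UT := W) (UX := p ⁻¹ᵁ U) hle le_rfl hUY hU hWaff
    (hU.preimage p)
  have hpo := ((isIso_pushoutSection_iff H (UT := W) (UX := p ⁻¹ᵁ U) hle le_rfl hUY).1 this).flip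
  simp only [Scheme.Hom.appLE, Scheme.Hom.id_app, Category.id_comp, homOfLE_refl, op_id,
    CategoryTheory.Functor.map_id, Category.comp_id] at hpo
  refine ⟨W, hsg, hWaff, ?_⟩
  letI : Algebra Γ(S, W) Γ(X, p ⁻¹ᵁ W) := (p.app W).hom.toAlgebra
  letI : Algebra Γ(S, U) Γ(S, W) := (S.presheaf.map (homOfLE hle).op).hom.toAlgebra
  letI : Algebra Γ(X, p ⁻¹ᵁ U) Γ(X, p ⁻¹ᵁ W) := (X.presheaf.map (homOfLE (p.preimage_mono hle)).op).hom.toAlgebra
  letI : Algebra Γ(S, U) Γ(X, p ⁻¹ᵁ W) :=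
    (S.presheaf.map (homOfLE hle).op ≫ p.app W).hom.toAlgebra
  haveI : IsScalarTower Γ(S, U) Γ(S, W) Γ(X, p ⁻¹ᵁ W) := IsScalarTower.of_algebraMap_eq fun _ => rfl
  haveI : IsScalarTower Γ(S, U) Γ(X, p ⁻¹ᵁ U) Γ(X, p ⁻¹ᵁ W) := IsScalarTower.of_algebraMap_eq' <| by
    change (S.presheaf.map (homOfLE hle).op ≫ p.app W).hom = _
    rw [p.naturality]
    rfl
  haveI : IsLocalization.Away g Γ(S, W) := hU.isLocalization_basicOpen g
  haveI : Algebra.IsPushout Γ(S, U) Γ(S, W) Γ(X, p ⁻¹ᵁ U) Γ(X, p ⁻¹ᵁ W) :=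
    CommRingCat.isPushout_iff_isPushout.1 hpo
  exact hfree Γ(S, W) Γ(X, p ⁻¹ᵁ W)

end Groth.Agent.GmDual77.Norm
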