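import Groth.Agent.GaChar.Basic
import Mathlib.Algebra.Polynomial.Div
import Mathlib.Algebra.DualNumber
import Mathlib.Algebra.Polynomial.Expand
import Mathlib.RingTheory.PowerSeries.Exp
import Mathlib.Algebra.CharP.Algebra

/-!
# Functions of characters of the additive group are evaluations
-/

set_option autoImplicit false
set_option linter.style.haveILetI false

universe u

open Polynomial DualNumber

noncomputable section

namespace Groth.Agent.GmDual77.GaAlg

open Groth.Agent.GaChar

variable {A B : Type u} [CommRing A] [CommRing B]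

/-- A polynomial character of the additive group. -/
def IsC (f : A[X]) : Prop := f.eval 0 = 1 ∧ IsChar (f : PowerSeries A)

theorem IsC.map {f : A[X]} (h : IsC f) (e : A →+* B) : IsC (f.map e) := by
  refine ⟨?_, isChar_iff.2 fun i j => ?_⟩
  · rw [← map_zero e, eval_map_apply, h.1, map_one]
  · simp only [Polynomial.coeff_coe, coeff_map, ← map_natCast e, ← map_mul]
    have := isChar_iff.1 h.2 i j
    simp only [Polynomial.coeff_coe] at this
    rw [this]

theorem IsC.mul {f g : A[X]} (hf : IsC f) (hg : IsC g) : IsC (f * g) :=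
  ⟨by rw [eval_mul, hf.1, hg.1, mul_one], by rw [Polynomial.coe_mul]; exact hf.2.mul hg.2⟩

theorem isC_one : IsC (1 : A[X]) := ⟨eval_one, by rw [Polynomial.coe_one]; exact isChar_one⟩

theorem IsC.eval_add {f : A[X]} (h : IsC f) (a b : A) : f.eval (a + b) = f.eval a * f.eval b := by
  have h1 := congrArg (MvPolynomial.aeval (R := A) ![a, b]) ((isChar_coe_iff f).1 h.2)
  rw [map_mul, ← Polynomial.aeval_algHom_apply, ← Polynomial.aeval_algHom_apply,
    ← Polynomial.aeval_algHom_apply] at h1
  simpa [Polynomial.coe_aeval_eq_eval] using h1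

theorem IsC.isUnit_eval {f : A[X]} (h : IsC f) (a : A) : IsUnit (f.eval a) :=
  IsUnit.of_mul_eq_one (f.eval (-a)) (by rw [← h.eval_add, add_neg_cancel, h.1])

variable (R : Type u) [CommRing R]

/-- A natural multiplicative function of polynomial characters over `R`-algebras. -/
structure CharFn where
  app : ∀ (A : Type u) [CommRing A] [Algebra R A], A[X] → A
  app_one : ∀ (A : Type u) [CommRing A] [Algebra R A], app A 1 = 1
  app_mul : ∀ (A : Type u) [CommRing A] [Algebra R A] {f g : A[X]}, IsC f → IsC g →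
    app A (f * g) = app A f * app A g
  nat : ∀ (A B : Type u) [CommRing A] [CommRing B] [Algebra R A] [Algebra R B] (e : A →ₐ[R] B) {f : A[X]},
    IsC f → app B (f.map (e : A →+* B)) = e (app A f)

/-- Characters separate elements of `R`. -/
def Separating : Prop :=
  ∀ r r' : R, (∀ (A : Type u) [CommRing A] [Algebra R A] (f : A[X]), IsC f →
    f.eval (algebraMap R A r) = f.eval (algebraMap R A r')) → r = r'

/-- Every function of characters is an evaluation. -/
def HasBidual : Prop :=
  ∀ φ : CharFn R, ∃ r : R, ∀ (A : Type u) [CommRing A] [Algebra R A] (f : A[X]), IsC f →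
    φ.app A f = f.eval (algebraMap R A r)

variable {R}

/-- `R[x]/(x^n)`. -/
abbrev Q1 (R : Type u) [CommRing R] (n : ℕ) : Type u := R[X] ⧸ Ideal.span {(X : R[X]) ^ n}

/-- The class of `x`. -/
abbrev xc (n : ℕ) : Q1 R n := Ideal.Quotient.mk _ X

theorem xc_pow (n : ℕ) : (xc n : Q1 R n) ^ n = 0 := by
  rw [← map_pow, Ideal.Quotient.eq_zero_iff_mem]
  exact Ideal.mem_span_singleton_self _

theorem exists_coeffs {n : ℕ} (z : Q1 R n) :
    ∃ d : ℕ → R, z = ∑ j ∈ Finset.range n, algebraMap R (Q1 R n) (d j) * xc n ^ j := by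
  obtain ⟨P, rfl⟩ := Ideal.Quotient.mk_surjective z
  refine ⟨P.coeff, ?_⟩
  have h : P - ∑ j ∈ Finset.range n, Polynomial.C (P.coeff j) * X ^ j ∈ Ideal.span {(X : R[X]) ^ n} := by
    rw [Ideal.mem_span_singleton, X_pow_dvd_iff]
    intro d hd
    simp [hd]
  rw [Ideal.Quotient.eq.2 h, map_sum]
  simp only [map_mul, map_pow]
  rfl

theorem coeffs_injective {n : ℕ} {d d' : ℕ → R}
    (h : ∑ j ∈ Finset.range n, algebraMap R (Q1 R n) (d j) * xc n ^ j =
      ∑ j ∈ Finset.range n, algebraMap R (Q1 R n) (d' j) * xc n ^ j) {j : ℕ} (hj : j < n) : d j = d' j := by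
  have h' : Ideal.Quotient.mk (Ideal.span {(X : R[X]) ^ n}) (∑ j ∈ Finset.range n, Polynomial.C (d j) * X ^ j) =
      Ideal.Quotient.mk _ (∑ j ∈ Finset.range n, Polynomial.C (d' j) * X ^ j) := by
    simp only [map_sum, map_mul, map_pow]
    exact h
  rw [Ideal.Quotient.eq, Ideal.mem_span_singleton, X_pow_dvd_iff] at h'
  simpa [hj, sub_eq_zero] using h' j hj

/-- The map `R[x]/(x^n) → A`, `x ↦ a`. -/
def lift1 {A : Type u} [CommRing A] [Algebra R A] {n : ℕ} (a : A) (ha : a ^ n = 0) : Q1 R n →ₐ[R] A :=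
  Ideal.Quotient.liftₐ _ (aeval a) fun P hP => by
    obtain ⟨Q, rfl⟩ := Ideal.mem_span_singleton.1 hP
    simp [ha]

theorem lift1_xc {A : Type u} [CommRing A] [Algebra R A] {n : ℕ} (a : A) (ha : a ^ n = 0) :
    lift1 (R := R) a ha (xc n) = a := by
  exact aeval_X a

theorem lift1_sum {A : Type u} [CommRing A] [Algebra R A] {n : ℕ} (a : A) (ha : a ^ n = 0) (d : ℕ → R) :
    lift1 (R := R) a ha (∑ j ∈ Finset.range n, algebraMap R (Q1 R n) (d j) * xc n ^ j) =
      ∑ j ∈ Finset.range n, algebraMap R A (d j) * a ^ j := by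
  simp [map_sum, map_mul, map_pow, lift1_xc]

section DualNumber

variable {S : Type u} [CommRing S]

theorem inl_add_eps_pow (x : S) : ∀ k : ℕ,
    ((TrivSqZeroExt.inl x : DualNumber S) + ε) ^ k =
      TrivSqZeroExt.inl (x ^ k) + TrivSqZeroExt.inr ((k : S) * x ^ (k - 1))
  | 0 => by ext <;> simp
  | k + 1 => by
    rw [pow_succ, inl_add_eps_pow x k]
    ext
    · simp [pow_succ]
    · simp only [TrivSqZeroExt.snd_mul, TrivSqZeroExt.fst_add, TrivSqZeroExt.snd_add, TrivSqZeroExt.fst_inl,
        TrivSqZeroExt.snd_inl, TrivSqZeroExt.fst_inr, TrivSqZeroExt.snd_inr, DualNumber.fst_eps,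
        DualNumber.snd_eps, smul_eq_mul, MulOpposite.smul_eq_mul_unop, MulOpposite.unop_op]
      rcases k with _ | k
      · simp
      · simp only [Nat.add_sub_cancel]; push_cast; ring

theorem inl_pow' (x : S) : ∀ k : ℕ, (TrivSqZeroExt.inl x : DualNumber S) ^ k = TrivSqZeroExt.inl (x ^ k)
  | 0 => by simp
  | k + 1 => by rw [pow_succ, pow_succ, TrivSqZeroExt.inl_mul, inl_pow' x k]

theorem eps_sq : (ε : DualNumber S) ^ 2 = 0 := (sq _).trans DualNumber.eps_mul_eps

theorem snd_mul' (z w : DualNumber S) : (z * w).snd = z.fst * w.snd + z.snd * w.fst := by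
  rw [TrivSqZeroExt.snd_mul, smul_eq_mul, MulOpposite.smul_eq_mul_unop, MulOpposite.unop_op]

theorem fst_alg_mul [Algebra R S] (c : R) (z : DualNumber S) :
    (algebraMap R (DualNumber S) c * z).fst = algebraMap R S c * z.fst := by
  simp [TrivSqZeroExt.algebraMap_eq_inl']

theorem snd_alg_mul [Algebra R S] (c : R) (z : DualNumber S) :
    (algebraMap R (DualNumber S) c * z).snd = algebraMap R S c * z.snd := by
  simp [snd_mul', TrivSqZeroExt.algebraMap_eq_inl']

theorem snd_alg [Algebra R S] (c : R) : (algebraMap R (DualNumber S) c).snd = 0 := by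
  simp [TrivSqZeroExt.algebraMap_eq_inl']

theorem fst_alg [Algebra R S] (c : R) : (algebraMap R (DualNumber S) c).fst = algebraMap R S c := by
  simp [TrivSqZeroExt.algebraMap_eq_inl']

theorem add_eps_pow_eq_zero (x : S) {k : ℕ} (hx : x ^ k = 0) :
    ((TrivSqZeroExt.inl x : DualNumber S) + ε) ^ (k + 1) = 0 := by
  rw [inl_add_eps_pow, pow_succ, hx, zero_mul, Nat.add_sub_cancel, hx, mul_zero, TrivSqZeroExt.inl_zero,
    TrivSqZeroExt.inr_zero, add_zero]

theorem fst_add_eps_pow (x : S) (k : ℕ) : (((TrivSqZeroExt.inl x : DualNumber S) + ε) ^ k).fst = x ^ k := by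
  simp [inl_add_eps_pow]

theorem snd_add_eps_pow (x : S) (k : ℕ) :
    (((TrivSqZeroExt.inl x : DualNumber S) + ε) ^ k).snd = (k : S) * x ^ (k - 1) := by
  simp [inl_add_eps_pow]

theorem fst_inl_pow (x : S) (k : ℕ) : ((TrivSqZeroExt.inl x : DualNumber S) ^ k).fst = x ^ k := by
  simp [inl_pow']

theorem snd_inl_pow (x : S) (k : ℕ) : ((TrivSqZeroExt.inl x : DualNumber S) ^ k).snd = 0 := by
  simp [inl_pow']

end DualNumber

section Rat

/-- The truncated exponential `exp (a X)`. -/
def ET {A : Type u} [CommRing A] [Algebra ℚ A] (n : ℕ) (a : A) : A[X] :=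
  PowerSeries.trunc n (PowerSeries.rescale a (PowerSeries.exp A))

theorem coeff_ET {A : Type u} [CommRing A] [Algebra ℚ A] (n : ℕ) (a : A) (k : ℕ) :
    (ET n a).coeff k = if k < n then algebraMap ℚ A (1 / k.factorial) * a ^ k else 0 := by
  rw [ET, PowerSeries.coeff_trunc, coeff_rescale_exp]

theorem coe_ET {A : Type u} [CommRing A] [Algebra ℚ A] {n : ℕ} {a : A} (ha : a ^ n = 0) :
    (ET n a : PowerSeries A) = PowerSeries.rescale a (PowerSeries.exp A) := by
  ext k
  rw [Polynomial.coeff_coe, coeff_ET, coeff_rescale_exp]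
  split_ifs with hk
  · rfl
  · rw [pow_eq_zero_of_le (le_of_not_gt hk) ha, mul_zero]

theorem isC_ET {A : Type u} [CommRing A] [Algebra ℚ A] {n : ℕ} {a : A} (ha : a ^ n = 0) : IsC (ET n a) := by
  obtain ⟨h0, h1⟩ := (rat_iff (PowerSeries.rescale a (PowerSeries.exp A))).2 ⟨a, rfl⟩
  refine ⟨?_, by rw [coe_ET ha]; exact h1⟩
  rw [← Polynomial.coeff_zero_eq_eval_zero, ← Polynomial.coeff_coe, coe_ET ha,
    PowerSeries.coeff_zero_eq_constantCoeff_apply, h0]

theorem map_ET {A B : Type u} [CommRing A] [CommRing B] [Algebra ℚ A] [Algebra ℚ B] (n : ℕ) (a : A)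
    (e : A →+* B) : (ET n a).map e = ET n (e a) := by
  ext k
  rw [coeff_map, coeff_ET, coeff_ET]
  split_ifs
  · rw [map_mul, map_pow, RingHom.map_rat_algebraMap]
  · rw [map_zero]

variable [Algebra ℚ R]

theorem hasBidual_rat : HasBidual R := by
  intro φ
  letI : ∀ n, Algebra ℚ (Q1 R n) := fun n => ((algebraMap R (Q1 R n)).comp (algebraMap ℚ R)).toAlgebra
  let d : ℕ → ℕ → R := fun n => (exists_coeffs (φ.app (Q1 R n) (ET n (xc n)))).choose
  have hd : ∀ n, φ.app (Q1 R n) (ET n (xc n)) =
      ∑ j ∈ Finset.range n, algebraMap R (Q1 R n) (d n j) * xc n ^ j :=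
    fun n => (exists_coeffs (φ.app (Q1 R n) (ET n (xc n)))).choose_spec
  have happ : ∀ (A : Type u) [CommRing A] [Algebra R A] [Algebra ℚ A] (n : ℕ) (a : A), a ^ n = 0 →
      φ.app A (ET n a) = ∑ j ∈ Finset.range n, algebraMap R A (d n j) * a ^ j := by
    intro A _ _ _ n a ha
    have h := φ.nat (Q1 R n) A (lift1 a ha) (isC_ET (xc_pow n))
    rw [map_ET, hd, lift1_sum] at h
    simp only [AlgHom.coe_toRingHom, lift1_xc] at h
    exact h
  have htr : ∀ (A : Type u) [CommRing A] [Algebra ℚ A] (n m : ℕ) (a : A), a ^ n = 0 → n ≤ m → ET m a = ET n a := by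
    intro A _ _ n m a ha hnm
    ext k
    rw [coeff_ET, coeff_ET]
    split_ifs with h1 h2 h2
    · rfl
    · rw [pow_eq_zero_of_le (le_of_not_gt h2) ha, mul_zero]
    · omega
    · rfl
  have hd0 : ∀ n, 0 < n → d n 0 = 1 := by
    intro n hn
    have h := happ R n 0 (zero_pow hn.ne')
    rw [Finset.sum_eq_single 0] at h
    · rw [pow_zero, mul_one] at h
      have e : ET n (0 : R) = 1 := by
        ext k
        rw [coeff_ET, Polynomial.coeff_one]
        rcases k with _ | k
        · simp [hn]
        · simp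
      rw [e, φ.app_one] at h
      exact h.symm
    · intro j _ hj; rw [zero_pow hj, mul_zero]
    · intro h'; exact absurd (Finset.mem_range.2 hn) h'
  have hcompat : ∀ n m j, n ≤ m → j < n → d m j = d n j := by
    intro n m j hnm hj
    have hxm : (xc n : Q1 R n) ^ m = 0 := pow_eq_zero_of_le hnm (xc_pow n)
    have h := happ (Q1 R n) m (xc n) hxm
    rw [htr _ n m _ (xc_pow n) hnm, happ (Q1 R n) n (xc n) (xc_pow n)] at h
    rw [← Finset.sum_subset (Finset.range_mono hnm)
      (fun k _ hk => by rw [pow_eq_zero_of_le (not_lt.1 (fun h' => hk (Finset.mem_range.2 h'))) (xc_pow n), mul_zero])] at h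
    exact (coeffs_injective h hj).symm
  have hrec : ∀ n j, j < n → (d 2 1) * d n j = ((j + 1 : ℕ) : R) * d (n + 1) (j + 1) := by
    intro n j hj
    letI : Algebra ℚ (DualNumber (Q1 R n)) := Algebra.compHom _ (algebraMap ℚ R)
    let a : (DualNumber (Q1 R n)) := TrivSqZeroExt.inl (xc n)
    have ha : a ^ n = 0 := by simp only [a, inl_pow', xc_pow, TrivSqZeroExt.inl_zero]
    have hε : (ε : (DualNumber (Q1 R n))) ^ 2 = 0 := eps_sq
    have hab : (a + ε) ^ (n + 1) = 0 := by
      exact add_eps_pow_eq_zero _ (xc_pow n)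
    have hmul : ET n a * ET 2 (ε : (DualNumber (Q1 R n))) = ET (n + 1) (a + ε) := by
      apply Polynomial.coe_inj.1
      rw [Polynomial.coe_mul, coe_ET ha, coe_ET hε, coe_ET hab, PowerSeries.exp_mul_exp_eq_exp_add]
    have h := φ.app_mul (DualNumber (Q1 R n)) (isC_ET ha) (isC_ET hε)
    rw [hmul, happ (DualNumber (Q1 R n)) _ _ ha, happ (DualNumber (Q1 R n)) _ _ hε, happ (DualNumber (Q1 R n)) _ _ hab] at h
    have hs := congrArg TrivSqZeroExt.snd h
    have key : (∑ k ∈ Finset.range (n + 1), algebraMap R (DualNumber (Q1 R n)) (d (n + 1) k) * (a + ε) ^ k).snd =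
        ∑ k ∈ Finset.range n, algebraMap R (Q1 R n) (((k + 1 : ℕ) : R) * d (n + 1) (k + 1)) * xc n ^ k := by
      rw [TrivSqZeroExt.snd_sum, Finset.sum_range_succ']
      simp only [a, snd_alg_mul, snd_add_eps_pow, Nat.cast_zero, zero_mul, mul_zero, add_zero,
        Nat.add_sub_cancel, map_mul, map_natCast]
      exact Finset.sum_congr rfl fun k _ => by ring
    have key2 : ((∑ k ∈ Finset.range n, algebraMap R (DualNumber (Q1 R n)) (d n k) * a ^ k) *
        (∑ k ∈ Finset.range 2, algebraMap R (DualNumber (Q1 R n)) (d 2 k) * (ε : (DualNumber (Q1 R n))) ^ k)).snd =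
        ∑ k ∈ Finset.range n, algebraMap R (Q1 R n) (d 2 1 * d n k) * xc n ^ k := by
      rw [Finset.sum_range_succ, Finset.sum_range_one, pow_zero, pow_one, snd_mul']
      simp only [TrivSqZeroExt.snd_sum, TrivSqZeroExt.fst_sum, snd_alg_mul, fst_alg_mul, snd_alg, fst_alg, a, snd_inl_pow,
        fst_inl_pow, TrivSqZeroExt.fst_add, TrivSqZeroExt.snd_add, DualNumber.snd_eps, DualNumber.fst_eps,
        TrivSqZeroExt.fst_one, TrivSqZeroExt.snd_one, mul_zero, mul_one, Finset.sum_const_zero, zero_mul,
        add_zero, zero_add]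
      rw [Finset.sum_mul]
      exact Finset.sum_congr rfl fun k _ => by rw [map_mul]; ring
    rw [key, key2] at hs
    exact (coeffs_injective hs hj).symm
  let r : R := d 2 1
  have hform : ∀ j n, j < n → (j.factorial : R) * d n j = r ^ j := by
    intro j
    induction j with
    | zero => intro n hn; rw [hd0 n hn]; simp
    | succ j ih =>
      intro n hn
      rw [← hcompat n (n + 1) (j + 1) (Nat.le_succ n) hn, Nat.factorial_succ, Nat.cast_mul, pow_succ',
        ← ih n (by omega), mul_assoc]
      rw [mul_left_comm, ← hrec n j (by omega)]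
      ring
  refine ⟨r, fun A _ _ f hf => ?_⟩
  letI : Algebra ℚ A := ((algebraMap R A).comp (algebraMap ℚ R)).toAlgebra
  obtain ⟨a, ha⟩ := (rat_iff (f : PowerSeries A)).1 ⟨by
    rw [← PowerSeries.coeff_zero_eq_constantCoeff_apply, Polynomial.coeff_coe,
      Polynomial.coeff_zero_eq_eval_zero, hf.1], hf.2⟩
  let N := f.natDegree + 1
  have hN : a ^ N = 0 := by
    have h := congrArg (PowerSeries.coeff N) ha
    rw [Polynomial.coeff_coe, coeff_rescale_exp, Polynomial.coeff_eq_zero_of_natDegree_lt (Nat.lt_succ_self _)] at h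
    have h' := congrArg (algebraMap ℚ A (N.factorial : ℚ) * ·) h
    rw [mul_zero, ← mul_assoc, ← map_mul, mul_one_div_cancel (by exact_mod_cast N.factorial_ne_zero), map_one,
      one_mul] at h'
    exact h'.symm
  have hfE : f = ET N a := by
    apply Polynomial.coe_inj.1
    rw [coe_ET hN, ha]
  have hdeg : (ET N a).natDegree < N := by
    rw [← hfE]
    exact Nat.lt_succ_self _
  rw [hfE, happ A N a hN, Polynomial.eval_eq_sum_range' hdeg]
  refine Finset.sum_congr rfl fun j hj => ?_
  rw [coeff_ET, if_pos (Finset.mem_range.1 hj), ← map_pow (algebraMap R A), ← hform j N (Finset.mem_range.1 hj),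
    map_mul, map_natCast]
  have e : algebraMap ℚ A (1 / (j.factorial : ℚ)) * (j.factorial : A) = 1 := by
    rw [← map_natCast (algebraMap ℚ A), ← map_mul, one_div_mul_cancel (by exact_mod_cast j.factorial_ne_zero),
      map_one]
  calc algebraMap R A (d N j) * a ^ j
      = (algebraMap ℚ A (1 / (j.factorial : ℚ)) * (j.factorial : A)) * (algebraMap R A (d N j) * a ^ j) := by
        rw [e, one_mul]
    _ = _ := by ring

theorem separating_rat : Separating R := by
  intro r r' h
  letI : Algebra ℚ (DualNumber R) := ((algebraMap R (DualNumber R)).comp (algebraMap ℚ R)).toAlgebra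
  have hε : (ε : DualNumber R) ^ 2 = 0 := by rw [sq]; exact DualNumber.eps_mul_eps
  have := congrArg TrivSqZeroExt.snd (h (DualNumber R) _ (isC_ET hε))
  have hdeg : (ET 2 (ε : DualNumber R)).natDegree < 2 := by
    rw [Nat.lt_succ_iff, Polynomial.natDegree_le_iff_coeff_eq_zero]
    intro k hk
    rw [coeff_ET, if_neg (by omega)]
  simpa [Polynomial.eval_eq_sum_range' hdeg, Finset.sum_range_succ, coeff_ET,
    TrivSqZeroExt.algebraMap_eq_inl'] using this

end Rat

section Prime

variable (p : ℕ) [hp : Fact p.Prime]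

theorem charP_of_cast_eq_zero {A : Type u} [CommRing A] [Nontrivial A] (h : (p : A) = 0) : CharP A p :=
  (CharP.charP_iff_prime_eq_zero hp.out).2 h

theorem map_inverse {A B : Type u} [CommRing A] [CommRing B] (e : A →+* B) {x : A} (hx : IsUnit x) :
    Ring.inverse (e x) = e (Ring.inverse x) := by
  obtain ⟨w, rfl⟩ := hx
  rw [Ring.inverse_unit]
  exact Ring.inverse_unit (Units.map (e : A →* B) w)

theorem map_expp {A B : Type u} [CommRing A] [CommRing B] [CharP A p] (a : A) (n : ℕ) (e : A →+* B) :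
    (expp p a n).map e = expp p (e a) n := by
  simp only [expp, Polynomial.map_sum, Polynomial.map_mul, Polynomial.map_C, Polynomial.map_pow, Polynomial.map_X,
    map_mul, map_pow]
  refine Finset.sum_congr rfl fun j hj => ?_
  rw [← map_inverse e (isUnit_factorial (A := A) p (Finset.mem_range.1 hj)), map_natCast]

theorem isC_expp {A : Type u} [CommRing A] [CharP A p] {a : A} (ha : a ^ p = 0) (n : ℕ) : IsC (expp p a n) :=
  ⟨eval_zero_expp p a n, isChar_expp p ha n⟩

theorem expand_expp {A : Type u} [CommRing A] (a : A) (m n : ℕ) :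
    Polynomial.expand A (p ^ n) (expp p a m) = expp p a (m + n) := by
  simp [expp, map_sum, ← pow_mul, pow_add, mul_comm, mul_assoc]

theorem expp_mul {A : Type u} [CommRing A] [CharP A p] {a b : A} (ha : a ^ p = 0) (hb : b ^ p = 0) (n : ℕ) :
    expp p a n * expp p b n =
      expp p (a + b) n * expp p ((expp p a 0 * expp p b 0).coeff p) (n + 1) ∧
      ((expp p a 0 * expp p b 0).coeff p) ^ p = 0 := by
  have hP := hp.out
  have hdeg : ∀ c : A, (expp p c 0).natDegree ≤ p - 1 := fun c => by
    rw [Polynomial.natDegree_le_iff_coeff_eq_zero]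
    intro k hk
    rw [coeff_expp_zero, if_neg (by omega)]
  have hd : (expp p a 0 * expp p b 0).natDegree < p ^ 2 := by
    refine lt_of_le_of_lt (Polynomial.natDegree_mul_le_of_le (hdeg a) (hdeg b)) ?_
    have := hP.two_le
    rw [sq]
    have : p + p ≤ p * p := by
      calc p + p = 2 * p := by ring
        _ ≤ p * p := Nat.mul_le_mul_right p hP.two_le
    omega
  obtain ⟨c, hc, hprod⟩ := eq_prod_of_isChar p ((isC_expp p ha 0).mul (isC_expp p hb 0)).1
    ((isC_expp p ha 0).mul (isC_expp p hb 0)).2 hd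
  have h01 : expp p a 0 * expp p b 0 = expp p (c 0) 0 * expp p (c 1) 1 := by
    rw [hprod, Finset.prod_range_succ, Finset.prod_range_one]
  have hco := fun k => coeff_prod_succ p c (∏ n ∈ Finset.range 1, expp p (c n) n) (coeff_prod_of_le p 1) k
  simp only [Finset.prod_range_one, pow_one] at hco
  have h1 : a + b = c 0 := by
    have e := congrArg (fun f => Polynomial.coeff f 1) h01
    simp only [hco] at e
    rw [Polynomial.coeff_mul, Finset.Nat.antidiagonal_succ, Finset.sum_cons, Finset.Nat.antidiagonal_zero] at e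
    simp only [coeff_expp_zero, Finset.map_singleton, Finset.sum_singleton] at e
    have h1p : 1 < p := hP.one_lt
    have h12 : 1 < p ^ 2 := Nat.one_lt_pow two_ne_zero h1p
    simpa [h1p, hP.pos, h12, Nat.div_eq_of_lt h1p, Nat.mod_eq_of_lt h1p, add_comm] using e
  have h2 : (expp p a 0 * expp p b 0).coeff p = c 1 := by
    rw [h01, hco, if_pos (by rw [pow_succ, pow_one]; exact lt_mul_of_one_lt_left hP.pos hP.one_lt),
      Nat.div_self hP.pos, Nat.mod_self, coeff_expp_zero, if_pos hP.pos]
    simp
  refine ⟨?_, by rw [h2]; exact hc 1⟩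
  have := congrArg (Polynomial.expand A (p ^ n)) h01
  simp only [map_mul, expand_expp, zero_add] at this
  rw [h1, h2, this, add_comm 1 n]

theorem add_pow_eq_zero {A : Type u} [CommRing A] [CharP A p] {x y : A} (hx : x ^ p = 0) (hy : y ^ p = 0) :
    (x + y) ^ p = 0 := by
  rw [add_pow_char, hx, hy, add_zero]

theorem sq_mul_zero {A : Type u} [CommRing A] {e : A} (x : A) (h : e * e = 0) : e * x * (e * x) = 0 := by
  rw [mul_mul_mul_comm, h, zero_mul]

theorem hasBidual_prime (hR : (p : R) = 0) : HasBidual R := by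
  intro φ
  have hP := hp.out
  rcases subsingleton_or_nontrivial R with hR' | hR'
  · refine ⟨0, fun A _ _ f _ => ?_⟩
    haveI := (algebraMap R A).codomain_trivial
    exact Subsingleton.elim _ _
  haveI : CharP R p := charP_of_cast_eq_zero p hR
  haveI hQ : CharP (Q1 R p) p := by
    refine charP_of_injective_algebraMap (R := R) (A := Q1 R p) (fun a b h => ?_) p
    have := coeffs_injective (n := p) (d := fun j => if j = 0 then a else 0)
      (d' := fun j => if j = 0 then b else 0) (by simpa [Finset.sum_ite_eq', apply_ite, hP.pos] using h) hP.pos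
    simpa using this
  let d : ℕ → ℕ → R := fun n => (exists_coeffs (φ.app (Q1 R p) (expp p (xc p) n))).choose
  have hd : ∀ n, φ.app (Q1 R p) (expp p (xc p) n) =
      ∑ j ∈ Finset.range p, algebraMap R (Q1 R p) (d n j) * xc p ^ j :=
    fun n => (exists_coeffs (φ.app (Q1 R p) (expp p (xc p) n))).choose_spec
  have happ : ∀ (A : Type u) [CommRing A] [Algebra R A] (n : ℕ) (a : A), a ^ p = 0 →
      φ.app A (expp p a n) = ∑ j ∈ Finset.range p, algebraMap R A (d n j) * a ^ j := by
    intro A _ _ n a ha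
    have h := φ.nat (Q1 R p) A (lift1 a ha) (isC_expp p (xc_pow p) n)
    rw [map_expp, hd, lift1_sum] at h
    simp only [AlgHom.coe_toRingHom, lift1_xc] at h
    exact h
  have hd0 : ∀ n, d n 0 = 1 := by
    intro n
    have h := happ R n 0 (zero_pow hP.ne_zero)
    rw [Finset.sum_eq_single 0] at h
    · rw [pow_zero, mul_one] at h
      have e : expp p (0 : R) n = 1 := by
        rw [expp, Finset.sum_eq_single 0]
        · simp
        · intro j _ hj; simp [zero_pow hj]
        · intro h'; exact absurd (Finset.mem_range.2 hP.pos) h'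
      rw [e, φ.app_one] at h
      exact h.symm
    · intro j _ hj; rw [zero_pow hj, mul_zero]
    · intro h'; exact absurd (Finset.mem_range.2 hP.pos) h'
  have hrec : ∀ n, (∀ j, j + 1 < p → ((j + 1 : ℕ) : R) * d n (j + 1) = d n 1 * d n j) ∧
      d (n + 1) 1 * Ring.inverse ((p - 1).factorial : R) = d n 1 * d n (p - 1) := by
    intro n
    haveI : CharP (DualNumber (Q1 R p)) p := charP_of_injective_ringHom (f := TrivSqZeroExt.inlHom (Q1 R p) (Q1 R p))
      TrivSqZeroExt.inl_injective p
    let a : (DualNumber (Q1 R p)) := TrivSqZeroExt.inl (xc p)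
    have ha : a ^ p = 0 := by
      simp only [a, inl_pow', xc_pow, TrivSqZeroExt.inl_zero]
    have hε2 : (ε : (DualNumber (Q1 R p))) * ε = 0 := DualNumber.eps_mul_eps
    have hεk : ∀ k, 2 ≤ k → (ε : (DualNumber (Q1 R p))) ^ k = 0 := fun k hk => pow_eq_zero_of_le hk (by rw [sq]; exact hε2)
    have hε : (ε : (DualNumber (Q1 R p))) ^ p = 0 := hεk p hP.two_le
    obtain ⟨hmul, hcp⟩ := expp_mul (A := (DualNumber (Q1 R p))) p hε ha n
    have hcval : (expp p (ε : (DualNumber (Q1 R p))) 0 * expp p a 0).coeff p =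
        ε * (Ring.inverse ((p - 1).factorial : (DualNumber (Q1 R p))) * a ^ (p - 1)) := by
      rw [Polynomial.coeff_mul, Finset.sum_eq_single (1, p - 1)]
      · rw [coeff_expp_zero, coeff_expp_zero, if_pos hP.one_lt, if_pos (Nat.sub_lt hP.pos one_pos)]
        simp
      · rintro ⟨i, j⟩ hij hne
        rw [Finset.mem_antidiagonal] at hij
        simp only at hij ⊢
        rw [coeff_expp_zero, coeff_expp_zero]
        rcases Nat.lt_trichotomy i 1 with hi | hi | hi
        · rw [if_neg (show ¬ j < p by omega), mul_zero]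
        · exact absurd (Prod.ext hi (by omega)) hne
        · split_ifs <;> simp [hεk i hi]
      · intro h; exact absurd (Finset.mem_antidiagonal.2 (by have := hP.one_le; omega)) h
    have h := φ.app_mul (DualNumber (Q1 R p)) (isC_expp p hε n) (isC_expp p ha n)
    have hab : (ε + a) ^ p = 0 := add_pow_eq_zero (A := DualNumber (Q1 R p)) p (x := ε) (y := a) hε ha
    rw [hmul, φ.app_mul (DualNumber (Q1 R p)) (isC_expp p hab n) (isC_expp p hcp (n + 1)), happ (DualNumber (Q1 R p)) _ _ hab, happ (DualNumber (Q1 R p)) _ _ hcp,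
      happ (DualNumber (Q1 R p)) _ _ hε, happ (DualNumber (Q1 R p)) _ _ ha, hcval] at h
    have hsum : ∀ (e : ℕ → R) (z : (DualNumber (Q1 R p))), z * z = 0 →
        ∑ k ∈ Finset.range p, algebraMap R (DualNumber (Q1 R p)) (e k) * z ^ k = algebraMap R (DualNumber (Q1 R p)) (e 0) + algebraMap R (DualNumber (Q1 R p)) (e 1) * z := by
      intro e z hz
      rw [← Finset.sum_subset (Finset.range_mono hP.two_le) (fun k _ hk => by
        rw [pow_eq_zero_of_le (not_lt.1 (fun h' => hk (Finset.mem_range.2 h'))) (by rw [sq]; exact hz), mul_zero]),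
        Finset.sum_range_succ, Finset.sum_range_one, pow_zero, pow_one, mul_one]
    rw [hsum (d n) ε hε2, hsum (d (n + 1)) (ε * (Ring.inverse ((p - 1).factorial : DualNumber (Q1 R p)) * a ^ (p - 1)))
      (sq_mul_zero (A := DualNumber (Q1 R p)) _ hε2), add_comm (ε : (DualNumber (Q1 R p))) a,
      hd0, hd0, map_one] at h
    have hinv : Ring.inverse ((p - 1).factorial : (DualNumber (Q1 R p))) =
        algebraMap R (DualNumber (Q1 R p)) (Ring.inverse ((p - 1).factorial : R)) := by
      have := map_inverse (B := DualNumber (Q1 R p)) (algebraMap R (DualNumber (Q1 R p))) (isUnit_factorial (A := R) p (Nat.sub_lt hP.pos one_pos))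
      rw [map_natCast] at this
      exact this
    rw [hinv] at h
    have hs := congrArg TrivSqZeroExt.snd h
    let e : ℕ → R := fun k => if k + 1 < p then ((k + 1 : ℕ) : R) * d n (k + 1)
      else d (n + 1) 1 * Ring.inverse ((p - 1).factorial : R)
    have key : ((∑ k ∈ Finset.range p, algebraMap R (DualNumber (Q1 R p)) (d n k) * (a + ε) ^ k) *
        (1 + algebraMap R (DualNumber (Q1 R p)) (d (n + 1) 1) *
          (ε * (algebraMap R (DualNumber (Q1 R p)) (Ring.inverse ((p - 1).factorial : R)) * a ^ (p - 1))))).snd =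
        ∑ k ∈ Finset.range p, algebraMap R (Q1 R p) (e k) * xc p ^ k := by
      simp only [snd_mul', TrivSqZeroExt.snd_sum, TrivSqZeroExt.fst_sum, snd_alg_mul, fst_alg_mul, snd_alg, fst_alg, a,
        fst_add_eps_pow, snd_add_eps_pow, fst_inl_pow, snd_inl_pow, TrivSqZeroExt.fst_add, TrivSqZeroExt.snd_add,
        TrivSqZeroExt.fst_mul, TrivSqZeroExt.fst_one, TrivSqZeroExt.snd_one, DualNumber.fst_eps, DualNumber.snd_eps,
        mul_zero, zero_mul, add_zero, zero_add, mul_one, one_mul]
      obtain ⟨q, rfl⟩ : ∃ q, p = q + 1 := ⟨p - 1, by have := hP.one_le; omega⟩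
      simp only [Nat.add_sub_cancel]
      have hx : ∀ k, 0 < k → (xc (q + 1) : Q1 R (q + 1)) ^ k * xc (q + 1) ^ q = 0 := fun k hk => by
        rw [← pow_add]
        exact pow_eq_zero_of_le (by omega) (xc_pow _)
      rw [Finset.sum_mul, Finset.sum_eq_single 0 (fun k _ hk => by
        linear_combination (algebraMap R (Q1 R (q + 1)) (d n k) *
          (algebraMap R (Q1 R (q + 1)) (d (n + 1) 1) *
            algebraMap R (Q1 R (q + 1)) (Ring.inverse (q.factorial : R)))) * hx k (Nat.pos_of_ne_zero hk))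
        (fun h => absurd (Finset.mem_range.2 (Nat.succ_pos q)) h), hd0, map_one, pow_zero, one_mul, one_mul,
        Finset.sum_range_succ', Finset.sum_range_succ (fun k => algebraMap R (Q1 R (q + 1)) (e k) * xc (q + 1) ^ k)]
      have e1 : ∀ k ∈ Finset.range q, algebraMap R (Q1 R (q + 1)) (d n (k + 1)) *
          (((k + 1 : ℕ) : Q1 R (q + 1)) * xc (q + 1) ^ (k + 1 - 1)) =
          algebraMap R (Q1 R (q + 1)) (e k) * xc (q + 1) ^ k := fun k hk => by
        have hk' : k + 1 < q + 1 := by have := Finset.mem_range.1 hk; omega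
        simp only [e, if_pos hk', Nat.add_sub_cancel, map_mul, map_natCast]
        ring
      rw [Finset.sum_congr rfl e1]
      simp [e, map_mul]
      ring
    have key2 : ((1 + algebraMap R (DualNumber (Q1 R p)) (d n 1) * ε) * ∑ k ∈ Finset.range p, algebraMap R (DualNumber (Q1 R p)) (d n k) * a ^ k).snd =
        ∑ k ∈ Finset.range p, algebraMap R (Q1 R p) (d n 1 * d n k) * xc p ^ k := by
      simp only [snd_mul', TrivSqZeroExt.snd_sum, TrivSqZeroExt.fst_sum, snd_alg_mul, fst_alg_mul, snd_alg, fst_alg, a,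
        fst_inl_pow, snd_inl_pow, TrivSqZeroExt.fst_add, TrivSqZeroExt.snd_add, DualNumber.fst_eps,
        DualNumber.snd_eps, TrivSqZeroExt.fst_one, TrivSqZeroExt.snd_one, mul_zero, mul_one,
        Finset.sum_const_zero, add_zero, zero_add]
      simp [map_mul, Finset.mul_sum, mul_assoc]
    rw [key, key2] at hs
    refine ⟨fun j hj => ?_, ?_⟩
    · have := coeffs_injective hs (show j < p by omega)
      simpa [e, hj] using this
    · have := coeffs_injective hs (Nat.sub_lt hP.pos one_pos)
      simpa [e, show ¬ p - 1 + 1 < p by have := hP.one_le; omega] using this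
  let r : R := d 0 1
  have hform : ∀ n j, j < p → (j.factorial : R) * d n j = d n 1 ^ j := by
    intro n j
    induction j with
    | zero => intro; simp [hd0]
    | succ j ih =>
      intro hj
      rw [Nat.factorial_succ, Nat.cast_mul, pow_succ', ← ih (by omega), mul_assoc, mul_left_comm,
        (hrec n).1 j hj]
      ring
  have hr : ∀ n, d n 1 = r ^ p ^ n := by
    intro n
    induction n with
    | zero => simp [r]
    | succ n ih =>
      obtain ⟨w, hw⟩ := isUnit_factorial (A := R) p (Nat.sub_lt hP.pos one_pos)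
      have h2 := (hrec n).2
      have h3 := hform n (p - 1) (Nat.sub_lt hP.pos one_pos)
      rw [← hw, Ring.inverse_unit] at h2
      rw [← hw] at h3
      have : d (n + 1) 1 = d n 1 ^ p := by
        calc d (n + 1) 1 = d (n + 1) 1 * ((w⁻¹ : Rˣ) : R) * (w : R) := by rw [mul_assoc, Units.inv_mul, mul_one]
          _ = d n 1 * ((w : R) * d n (p - 1)) := by rw [h2]; ring
          _ = d n 1 ^ p := by rw [h3, ← pow_succ', Nat.sub_add_cancel hP.one_le]
      rw [this, ih, ← pow_mul, ← pow_succ]
  refine ⟨r, fun A _ _ f hf => ?_⟩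
  rcases subsingleton_or_nontrivial A with hA | hA
  · exact Subsingleton.elim _ _
  haveI : CharP A p := charP_of_cast_eq_zero p (by rw [← map_natCast (algebraMap R A), hR, map_zero])
  have hval : ∀ n (a : A), a ^ p = 0 → φ.app A (expp p a n) = (expp p a n).eval (algebraMap R A r) := by
    intro n a ha
    rw [happ A n a ha, expp, Polynomial.eval_finsetSum]
    refine Finset.sum_congr rfl fun j hj => ?_
    obtain ⟨w, hw⟩ := isUnit_factorial (A := A) p (Finset.mem_range.1 hj)
    have h3 : (w : A) * algebraMap R A (d n j) = algebraMap R A r ^ (j * p ^ n) := by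
      rw [hw, ← map_natCast (algebraMap R A), ← map_mul, hform n j (Finset.mem_range.1 hj), hr, map_pow, map_pow,
        ← pow_mul, mul_comm]
    rw [Polynomial.eval_mul, Polynomial.eval_C, Polynomial.eval_pow, Polynomial.eval_X, ← h3, ← hw,
      Ring.inverse_unit]
    calc algebraMap R A (d n j) * a ^ j
        = ((w⁻¹ : Aˣ) : A) * (w : A) * (algebraMap R A (d n j) * a ^ j) := by rw [Units.inv_mul, one_mul]
      _ = _ := by ring
  obtain ⟨a, ha, hprod⟩ := eq_prod_of_isChar p hf.1 hf.2 (m := f.natDegree + 1)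
    (lt_trans (Nat.lt_succ_self _) (Nat.lt_pow_self hP.one_lt))
  have : ∀ m, φ.app A (∏ n ∈ Finset.range m, expp p (a n) n) =
      (∏ n ∈ Finset.range m, expp p (a n) n).eval (algebraMap R A r) := by
    intro m
    induction m with
    | zero => simp [φ.app_one]
    | succ m ih =>
      have hm : IsC (∏ n ∈ Finset.range m, expp p (a n) n) :=
        ⟨by rw [Polynomial.eval_prod]; exact Finset.prod_eq_one fun n _ => eval_zero_expp p _ n,
          isChar_prod p ha m⟩
      rw [Finset.prod_range_succ, φ.app_mul A hm (isC_expp p (ha m) m), ih, hval m _ (ha m), Polynomial.eval_mul]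
  rw [hprod]
  exact this _

theorem separating_prime (hR : (p : R) = 0) : Separating R := by
  intro r r' h
  rcases subsingleton_or_nontrivial R with hR' | hR'
  · exact Subsingleton.elim _ _
  haveI : CharP R p := charP_of_cast_eq_zero p hR
  haveI : CharP (DualNumber R) p := charP_of_injective_ringHom (f := TrivSqZeroExt.inlHom R R)
    TrivSqZeroExt.inl_injective p
  have hε : (ε : DualNumber R) ^ p = 0 :=
    pow_eq_zero_of_le hp.out.two_le (by rw [sq]; exact DualNumber.eps_mul_eps)
  have hev : ∀ s : R, ((expp p (ε : DualNumber R) 0).eval (algebraMap R _ s)).snd = s := by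
    intro s
    rw [expp, Polynomial.eval_finsetSum, ← Finset.sum_subset (Finset.range_mono hp.out.two_le) (fun k _ hk => by
        have : (ε : DualNumber R) ^ k = 0 := pow_eq_zero_of_le (not_lt.1 (fun h' => hk (Finset.mem_range.2 h')))
          (by rw [sq]; exact DualNumber.eps_mul_eps)
        simp [this]), Finset.sum_range_succ, Finset.sum_range_one]
    simp [TrivSqZeroExt.algebraMap_eq_inl']
  rw [← hev r, ← hev r', h (DualNumber R) _ (isC_expp p hε 0)]

end Prime

end Groth.Agent.GmDual77.GaAlg
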