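import Groth.Agent.GmDual77.GaAlg
import Groth.Agent.GrpSchLib.GaPts
import Groth.Agent.IsoNatLib.Geom
import Groth.Agent.SiteBase.AbSecExact
import Groth.Prelude.Def_CGrpSh2
import Groth.Prelude.Def_GmPts
import Mathlib.CategoryTheory.Sites.LocallyBijective
import Mathlib.CategoryTheory.Sites.Whiskering
import Mathlib.Algebra.Category.Grp.Limits

/-!
# Double duality of the additive group
-/

set_option autoImplicit false
set_option linter.style.haveILetI false
set_option backward.isDefEq.respectTransparency false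
set_option backward.isDefEq.respectTransparency.types false

universe u

open CategoryTheory CategoryTheory.Limits AlgebraicGeometry Opposite MonObj Polynomial

noncomputable section

namespace Groth.Agent.GmDual77.GaDual

open Groth.Agent.GmDual77.GaAlg Groth.Agent.GrpSchLib

variable {X : Scheme.{u}}


section Local

variable {F G : BigSite.Ab Scheme.fppfPrecoverage X}

/-- A sieve containing the affine opens covers. -/
theorem mem_of_affine {T : Over X} (R : Sieve T)
    (h : ∀ (V : Over X) (g : V ⟶ T), IsAffine V.left → IsOpenImmersion g.left → R g) : R ∈ (QuotSh.J Scheme.fppfPrecoverage X) T := by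
  let 𝒰 := T.left.affineCover
  exact Groth.Agent.IsoNatLib.mem_J_of_openImm (fun i => Over.mk (𝒰.f i ≫ T.hom))
    (fun i => Over.homMk (𝒰.f i) rfl) (fun i => (inferInstance : IsOpenImmersion (𝒰.f i)))
    (fun x => ⟨_, 𝒰.covers x⟩) R fun i => h _ _ (inferInstanceAs (IsAffine (𝒰.X i)))
      (inferInstanceAs (IsOpenImmersion (𝒰.f i)))

theorem isIso_of_bijective_affine (φ : F ⟶ G)
    (h : ∀ T : Over X, IsAffine T.left → Function.Bijective (φ.hom.app (op T))) : IsIso φ := by
  haveI : ((QuotSh.J Scheme.fppfPrecoverage X)).HasSheafCompose (forget AddCommGrpCat.{u + 1}) :=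
    Groth.Agent.SiteBase.hasSheafCompose_forget ((QuotSh.J Scheme.fppfPrecoverage X))
  refine (Sheaf.isLocallyBijective_iff_isIso φ).1 ⟨⟨fun {T} x y hxy => mem_of_affine _ fun V g hV _ => (h V hV).1 ?_⟩,
    ⟨fun {T} s => mem_of_affine _ fun V g hV _ => (h V hV).2 _⟩⟩
  rw [NatTrans.naturality_apply φ.hom, NatTrans.naturality_apply φ.hom, hxy]

end Local

theorem fn_ext {T : Over X} {a b : Γ(T.left, ⊤)}
    (h : ∀ (V : Over X) (g : V ⟶ T), IsAffine V.left → g.left.appTop a = g.left.appTop b) : a = b := by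
  refine T.left.IsSheaf.section_ext fun x _ => ?_
  obtain ⟨_, ⟨U₀, hU, rfl⟩, hxU, -⟩ :=
    T.left.isBasis_affineOpens.exists_subset_of_mem_open (Set.mem_univ x) isOpen_univ
  let U : T.left.Opens := U₀
  refine ⟨U, le_top, hxU, ?_⟩
  have h1 := h (Over.mk (U.ι ≫ T.hom)) (Over.homMk U.ι rfl) hU
  have key : ∀ v : Γ(T.left, ⊤), T.left.presheaf.map (homOfLE (le_top : U ≤ ⊤)).op v =
      U.topIso.hom (U.ι.appTop v) := fun v => by
    rw [← CommRingCat.comp_apply, Scheme.Opens.ι_appTop, Scheme.Opens.topIso_hom]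
    erw [← Functor.map_comp]
    rfl
  change T.left.presheaf.map (homOfLE le_top).op a = T.left.presheaf.map (homOfLE le_top).op b
  rw [key, key]
  exact congrArg _ h1

section Sections

variable {F G : BigSite.Ab Scheme.fppfPrecoverage X} {T : Over X}

theorem natural_over (Φ : F.over T ⟶ G.over T) {V V' : Over X} (g : V' ⟶ V) (h : V ⟶ T) (x : F.obj.obj (op V)) :
    Φ.hom.app (op (Over.mk (g ≫ h))) (F.obj.map g.op x) = G.obj.map g.op (Φ.hom.app (op (Over.mk h)) x) :=
  ConcreteCategory.congr_hom (Φ.hom.naturality (Over.homMk g : Over.mk (g ≫ h) ⟶ Over.mk h).op) x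

theorem add_over (Φ : F.over T ⟶ G.over T) {V : Over X} (h : V ⟶ T) (x y : F.obj.obj (op V)) :
    Φ.hom.app (op (Over.mk h)) (x + y) = Φ.hom.app (op (Over.mk h)) x + Φ.hom.app (op (Over.mk h)) y :=
  map_add (Φ.hom.app (op (Over.mk h))).hom x y

theorem zero_over (Φ : F.over T ⟶ G.over T) {V : Over X} (h : V ⟶ T) :
    Φ.hom.app (op (Over.mk h)) (0 : F.obj.obj (op V)) = 0 :=
  map_zero (Φ.hom.app (op (Over.mk h))).hom

/-- The function of a section of `𝔾_m`. -/
def secFn {V : Over X} (z : (CGrpSh2.Gm Scheme.fppfPrecoverage X).obj.obj (op V)) : Γ(V.left, ⊤) :=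
  Red.gmFn z.down.toMul

theorem secFn_map {V V' : Over X} (g : V' ⟶ V) (z : (CGrpSh2.Gm Scheme.fppfPrecoverage X).obj.obj (op V)) :
    secFn ((CGrpSh2.Gm Scheme.fppfPrecoverage X).obj.map g.op z) = g.left.appTop (secFn z) :=
  GmPts.gmFn_comp g z.down.toMul

theorem secFn_add {V : Over X} (z w : (CGrpSh2.Gm Scheme.fppfPrecoverage X).obj.obj (op V)) :
    secFn (z + w) = secFn z * secFn w :=
  GmPts.gmFn_mul z.down.toMul w.down.toMul

theorem secFn_zero {V : Over X} : secFn (0 : (CGrpSh2.Gm Scheme.fppfPrecoverage X).obj.obj (op V)) = 1 :=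
  GmPts.gmFn_one

theorem secFn_injective {V : Over X} :
    Function.Injective (secFn : (CGrpSh2.Gm Scheme.fppfPrecoverage X).obj.obj (op V) → Γ(V.left, ⊤)) :=
  fun _ _ h => ULift.ext _ _ (Additive.toMul.injective (GmPts.gmFn_injective h))

end Sections

section Characters

variable {W : Over X}

/-- The value of a character at a point. -/
def chApp (χ : (CGrpSh2.Ga Scheme.fppfPrecoverage X).over W ⟶ (CGrpSh2.Gm Scheme.fppfPrecoverage X).over W) {V : Over X} (h : V ⟶ W)
    (x : V ⟶ Red.Ga X) : Γ(V.left, ⊤) :=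
  secFn (χ.hom.app (op (Over.mk h)) (ULift.up (Additive.ofMul x)))

theorem chApp_comp (χ : (CGrpSh2.Ga Scheme.fppfPrecoverage X).over W ⟶ (CGrpSh2.Gm Scheme.fppfPrecoverage X).over W)
    {V V' : Over X} (g : V' ⟶ V) (h : V ⟶ W) (x : V ⟶ Red.Ga X) :
    chApp χ (g ≫ h) (g ≫ x) = g.left.appTop (chApp χ h x) :=
  (congrArg secFn (natural_over χ g h (ULift.up (Additive.ofMul x)))).trans (secFn_map g _)

theorem chApp_mul (χ : (CGrpSh2.Ga Scheme.fppfPrecoverage X).over W ⟶ (CGrpSh2.Gm Scheme.fppfPrecoverage X).over W)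
    {V : Over X} (h : V ⟶ W) (x y : V ⟶ Red.Ga X) :
    chApp χ h (x * y) = chApp χ h x * chApp χ h y :=
  (congrArg secFn (add_over χ h (ULift.up (Additive.ofMul x)) (ULift.up (Additive.ofMul y)))).trans (secFn_add _ _)

theorem chApp_one (χ : (CGrpSh2.Ga Scheme.fppfPrecoverage X).over W ⟶ (CGrpSh2.Gm Scheme.fppfPrecoverage X).over W)
    {V : Over X} (h : V ⟶ W) : chApp χ h (1 : V ⟶ Red.Ga X) = 1 :=
  (congrArg secFn (zero_over χ h)).trans secFn_zero

theorem char_ext {χ χ' : (CGrpSh2.Ga Scheme.fppfPrecoverage X).over W ⟶ (CGrpSh2.Gm Scheme.fppfPrecoverage X).over W}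
    (h : ∀ (V : Over X) (g : V ⟶ W) (x : V ⟶ Red.Ga X), chApp χ g x = chApp χ' g x) : χ = χ' := by
  refine Sheaf.hom_ext (NatTrans.ext (funext fun U => AddCommGrpCat.ext fun x => ULift.ext _ _
    (Additive.toMul.injective (GmPts.gmFn_injective ?_))))
  exact h (unop U).left (unop U).hom x.down.toMul

/-- The character of a polynomial. -/
def charPoly (W : Over X) (f : Γ(W.left, ⊤)[X]) (hf : IsC f) : (CGrpSh2.Ga Scheme.fppfPrecoverage X).over W ⟶ (CGrpSh2.Gm Scheme.fppfPrecoverage X).over W :=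
  ⟨{ app := fun U => AddCommGrpCat.ofHom
      { toFun := fun x => ULift.up (Additive.ofMul (GmPts.ptOfUnit (T := (unop U).left)
          ((hf.map (unop U).hom.left.appTop.hom).isUnit_eval (Red.gaFn x.down.toMul)).unit))
        map_zero' := ULift.ext _ _ (Additive.toMul.injective (GmPts.gmFn_injective (by
          refine (GmPts.gmFn_ptOfUnit _).trans (Eq.trans ?_ (GmPts.gmFn_one (S := X) (T := (unop U).left)).symm)
          change Polynomial.eval (Red.gaFn (1 : (unop U).left ⟶ Red.Ga X)) _ = 1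
          rw [GaPts.gaFn_one]
          exact (hf.map _).1)))
        map_add' := fun a b => ULift.ext _ _ (Additive.toMul.injective (GmPts.gmFn_injective (by
          refine (GmPts.gmFn_ptOfUnit _).trans (Eq.trans ?_ (GmPts.gmFn_mul _ _).symm)
          erw [GmPts.gmFn_ptOfUnit, GmPts.gmFn_ptOfUnit]
          change Polynomial.eval (Red.gaFn (a.down.toMul * b.down.toMul)) _ = _
          rw [GaPts.gaFn_mul, (hf.map _).eval_add]
          rfl))) }
     naturality := fun U₁ U₂ g => AddCommGrpCat.ext fun x => ULift.ext _ _ (Additive.toMul.injective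
       (GmPts.gmFn_injective (by
         refine (GmPts.gmFn_ptOfUnit _).trans (Eq.trans ?_ (GmPts.gmFn_comp _ _).symm)
         erw [GmPts.gmFn_ptOfUnit]
         change Polynomial.eval (Red.gaFn (g.unop.left ≫ x.down.toMul)) (f.map (unop U₂).hom.left.appTop.hom) =
           g.unop.left.left.appTop ((f.map (unop U₁).hom.left.appTop.hom).eval (Red.gaFn x.down.toMul))
         rw [GaPts.gaFn_comp, ← Polynomial.eval_map_apply, Polynomial.map_map, ← CommRingCat.hom_comp,
           ← Scheme.Hom.comp_appTop, ← Over.comp_left, Over.w g.unop]))) }⟩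

theorem chApp_charPoly (f : Γ(W.left, ⊤)[X]) (hf : IsC f) {V : Over X} (h : V ⟶ W) (x : V ⟶ Red.Ga X) :
    chApp (charPoly W f hf) h x = (f.map h.left.appTop.hom).eval (Red.gaFn x) :=
  GmPts.gmFn_ptOfUnit _

/-- Restriction of characters. -/
def restr {W' : Over X} (g : W' ⟶ W) (χ : (CGrpSh2.Ga Scheme.fppfPrecoverage X).over W ⟶ (CGrpSh2.Gm Scheme.fppfPrecoverage X).over W) : (CGrpSh2.Ga Scheme.fppfPrecoverage X).over W' ⟶ (CGrpSh2.Gm Scheme.fppfPrecoverage X).over W' :=
  (CGrpSh2.dualSh Scheme.fppfPrecoverage (CGrpSh2.Ga Scheme.fppfPrecoverage X)).obj.map g.op χ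

theorem chApp_restr {W' : Over X} (g : W' ⟶ W) (χ : (CGrpSh2.Ga Scheme.fppfPrecoverage X).over W ⟶ (CGrpSh2.Gm Scheme.fppfPrecoverage X).over W) {V : Over X} (h : V ⟶ W')
    (x : V ⟶ Red.Ga X) : chApp (restr g χ) h x = chApp χ (h ≫ g) x := rfl

theorem restr_charPoly {W' : Over X} (g : W' ⟶ W) (f : Γ(W.left, ⊤)[X]) (hf : IsC f) :
    restr g (charPoly W f hf) = charPoly W' (f.map g.left.appTop.hom) (hf.map _) :=
  char_ext fun V h x => by
    rw [chApp_restr, chApp_charPoly, chApp_charPoly, Polynomial.map_map, ← CommRingCat.hom_comp,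
      ← Scheme.Hom.comp_appTop, ← Over.comp_left]

theorem charPoly_congr {f f' : Γ(W.left, ⊤)[X]} (e : f = f') (hf : IsC f) :
    charPoly W f hf = charPoly W f' (e ▸ hf) := by
  subst e
  rfl

theorem charPoly_one : charPoly W 1 isC_one = 0 :=
  char_ext fun V h x => by
    rw [chApp_charPoly, Polynomial.map_one, Polynomial.eval_one]
    exact (GmPts.gmFn_one (S := X) (T := V)).symm

theorem charPoly_mul {f f' : Γ(W.left, ⊤)[X]} (hf : IsC f) (hf' : IsC f') :
    charPoly W (f * f') (hf.mul hf') = charPoly W f hf + charPoly W f' hf' :=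
  char_ext fun V h x => by
    rw [chApp_charPoly, Polynomial.map_mul, Polynomial.eval_mul]
    refine Eq.trans ?_ (GmPts.gmFn_mul _ _).symm
    exact congrArg₂ (· * ·) (chApp_charPoly f hf h x).symm (chApp_charPoly f' hf' h x).symm

end Characters

section Spectra

variable (W : Over X) [IsAffine W.left] {B : CommRingCat.{u}} (φ : Γ(W.left, ⊤) ⟶ B)

/-- The spectrum of an algebra over the functions of an affine `W`. -/
abbrev specObj : Over X := Over.mk ((Spec.map φ ≫ W.left.isoSpec.inv) ≫ W.hom)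

/-- Its structure map. -/
def specHom : specObj W φ ⟶ W := Over.homMk (Spec.map φ ≫ W.left.isoSpec.inv) rfl

theorem specHom_appTop : (specHom W φ).left.appTop = φ ≫ (Scheme.ΓSpecIso B).inv := by
  change (Spec.map φ ≫ W.left.isoSpec.inv).appTop = _
  rw [Scheme.Hom.comp_appTop, Scheme.ΓSpecIso_inv_naturality]
  congr 1
  simp [Scheme.isoSpec]

variable {V : Over X} (ψ : B ⟶ Γ(V.left, ⊤)) (h : V ⟶ W)

theorem lift_w (comm : φ ≫ ψ = h.left.appTop) : (V.left.toSpecΓ ≫ Spec.map ψ) ≫ Spec.map φ ≫ W.left.isoSpec.inv = h.left := by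
  rw [Category.assoc, ← Spec.map_comp_assoc, comm, ← Scheme.toSpecΓ_naturality_assoc]
  simp [Scheme.isoSpec]

/-- A morphism into the spectrum from a ring map. -/
def specLift (comm : φ ≫ ψ = h.left.appTop) : V ⟶ specObj W φ :=
  Over.homMk (V.left.toSpecΓ ≫ Spec.map ψ) (by
    change (V.left.toSpecΓ ≫ Spec.map ψ) ≫ (Spec.map φ ≫ W.left.isoSpec.inv) ≫ W.hom = V.hom
    rw [← Category.assoc, lift_w W φ ψ h comm, Over.w h])

theorem specLift_comp (comm : φ ≫ ψ = h.left.appTop) : specLift W φ ψ h comm ≫ specHom W φ = h :=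
  Over.OverMorphism.ext (lift_w W φ ψ h comm)

theorem specLift_appTop (comm : φ ≫ ψ = h.left.appTop) : (specLift W φ ψ h comm).left.appTop = (Scheme.ΓSpecIso B).hom ≫ ψ := by
  change (V.left.toSpecΓ ≫ Spec.map ψ).appTop = _
  rw [Scheme.Hom.comp_appTop, ← cancel_epi (Scheme.ΓSpecIso B).inv, ← reassoc_of% Scheme.ΓSpecIso_inv_naturality ψ]
  simp

end Spectra

section Poly

variable {W : Over X} [IsAffine W.left] (χ : (CGrpSh2.Ga Scheme.fppfPrecoverage X).over W ⟶ (CGrpSh2.Gm Scheme.fppfPrecoverage X).over W)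

/-- The universal point. -/
theorem exists_poly : ∃ f : Γ(W.left, ⊤)[X], ∃ hf : IsC f, χ = charPoly W f hf := by
  let A := Γ(W.left, ⊤)
  let φ : A ⟶ CommRingCat.of A[X] := CommRingCat.ofHom Polynomial.C
  let x : specObj W φ ⟶ Red.Ga X := GaPts.ptOfFn ((Scheme.ΓSpecIso (CommRingCat.of A[X])).inv (Polynomial.X : A[X]))
  let f : A[X] := (Scheme.ΓSpecIso (CommRingCat.of A[X])).hom (chApp χ (specHom W φ) x)
  have key : ∀ (V : Over X) (h : V ⟶ W) (y : V ⟶ Red.Ga X),
      chApp χ h y = (f.map h.left.appTop.hom).eval (Red.gaFn y) := by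
    intro V h y
    let ψ : CommRingCat.of A[X] ⟶ Γ(V.left, ⊤) :=
      CommRingCat.ofHom (Polynomial.eval₂RingHom h.left.appTop.hom (Red.gaFn y))
    have comm : φ ≫ ψ = h.left.appTop := CommRingCat.hom_ext (RingHom.ext fun a => Polynomial.eval₂_C _ _)
    let g := specLift W φ ψ h comm
    have hy : g ≫ x = y := GaPts.gaFn_injective (by
      dsimp only [x]
      rw [GaPts.gaFn_comp, GaPts.gaFn_ptOfFn, specLift_appTop, CommRingCat.comp_apply]
      erw [Iso.inv_hom_id_apply]
      exact Polynomial.eval₂_X _ _)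
    rw [Polynomial.eval_map, ← specLift_comp W φ ψ h comm, ← hy, chApp_comp, specLift_appTop,
      CommRingCat.comp_apply]
    rw [specLift_comp W φ ψ h comm, hy]
    rfl
  have hf : IsC f := by
    refine ⟨?_, ?_⟩
    · have h1 := key W (𝟙 W) 1
      rw [chApp_one, GaPts.gaFn_one] at h1
      rw [Over.id_left, Scheme.Hom.id_appTop] at h1
      simpa using h1.symm
    · let B := CommRingCat.of (MvPolynomial (Fin 2) A)
      let φ₂ : A ⟶ B := CommRingCat.ofHom MvPolynomial.C
      let ε₂ := Scheme.ΓSpecIso B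
      let p : Fin 2 → (specObj W φ₂ ⟶ Red.Ga X) := fun i =>
        GaPts.ptOfFn (ε₂.inv (MvPolynomial.X i : MvPolynomial (Fin 2) A))
      have h1 := key _ (specHom W φ₂) (p 0 * p 1)
      rw [chApp_mul, key, key] at h1
      have e : ∀ z : B, (f.map (specHom W φ₂).left.appTop.hom).eval (ε₂.inv z) =
          ε₂.inv (Polynomial.aeval (R := A) (z : MvPolynomial (Fin 2) A) f) := fun z => by
        rw [specHom_appTop, CommRingCat.hom_comp, ← Polynomial.map_map, Polynomial.eval_map_apply]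
        congr 1
        rw [Polynomial.eval_map]
        rfl
      dsimp only [p] at h1
      rw [GaPts.gaFn_mul, GaPts.gaFn_ptOfFn, GaPts.gaFn_ptOfFn] at h1
      erw [← map_add, e, e, e, ← map_mul] at h1
      exact (GaChar.isChar_coe_iff f).2 (ε₂.commRingCatIsoToRingEquiv.symm.injective h1).symm
  exact ⟨f, hf, char_ext fun V h y => (key V h y).trans (chApp_charPoly f hf h y).symm⟩

end Poly

section Bidual

/-- The value of a functional of characters. -/
def phiApp {T : Over X}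
    (Φ : (CGrpSh2.dualSh Scheme.fppfPrecoverage (CGrpSh2.Ga Scheme.fppfPrecoverage X)).over T ⟶ (CGrpSh2.Gm Scheme.fppfPrecoverage X).over T)
    {V : Over X} (h : V ⟶ T)
    (χ : (CGrpSh2.Ga Scheme.fppfPrecoverage X).over V ⟶ (CGrpSh2.Gm Scheme.fppfPrecoverage X).over V) : Γ(V.left, ⊤) :=
  secFn (Φ.hom.app (op (Over.mk h)) χ)

variable {T : Over X} (Φ : (CGrpSh2.dualSh Scheme.fppfPrecoverage (CGrpSh2.Ga Scheme.fppfPrecoverage X)).over T ⟶ (CGrpSh2.Gm Scheme.fppfPrecoverage X).over T)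

theorem phiApp_comp {V V' : Over X} (g : V' ⟶ V) (h : V ⟶ T)
    (χ : (CGrpSh2.Ga Scheme.fppfPrecoverage X).over V ⟶ (CGrpSh2.Gm Scheme.fppfPrecoverage X).over V) :
    phiApp Φ (g ≫ h) (restr g χ) = g.left.appTop (phiApp Φ h χ) :=
  (congrArg secFn (natural_over Φ g h χ)).trans (secFn_map g _)

theorem phiApp_add {V : Over X} (h : V ⟶ T)
    (χ χ' : (CGrpSh2.Ga Scheme.fppfPrecoverage X).over V ⟶ (CGrpSh2.Gm Scheme.fppfPrecoverage X).over V) :
    phiApp Φ h (χ + χ') = phiApp Φ h χ * phiApp Φ h χ' :=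
  (congrArg secFn (add_over Φ h χ χ')).trans (secFn_add _ _)

theorem phiApp_zero {V : Over X} (h : V ⟶ T) : phiApp Φ h 0 = 1 :=
  (congrArg secFn (zero_over Φ h)).trans secFn_zero

theorem phi_ext {Φ' : (CGrpSh2.dualSh Scheme.fppfPrecoverage (CGrpSh2.Ga Scheme.fppfPrecoverage X)).over T ⟶ (CGrpSh2.Gm Scheme.fppfPrecoverage X).over T}
    (h : ∀ (V : Over X) (g : V ⟶ T) (χ : (CGrpSh2.Ga Scheme.fppfPrecoverage X).over V ⟶ (CGrpSh2.Gm Scheme.fppfPrecoverage X).over V), IsAffine V.left →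
      phiApp Φ g χ = phiApp Φ' g χ) : Φ = Φ' := by
  refine Sheaf.hom_ext (NatTrans.ext (funext fun U => AddCommGrpCat.ext fun χ => secFn_injective ?_))
  refine fn_ext (T := (unop U).left) fun V g hV => ?_
  exact (phiApp_comp Φ g (unop U).hom χ).symm.trans ((h V _ _ hV).trans (phiApp_comp Φ' g (unop U).hom χ))

theorem phiApp_bidual (s : T ⟶ Red.Ga X) {V : Over X} (h : V ⟶ T) (χ : (CGrpSh2.Ga Scheme.fppfPrecoverage X).over V ⟶ (CGrpSh2.Gm Scheme.fppfPrecoverage X).over V) :
    phiApp ((CGrpSh2.toDoubleDual Scheme.fppfPrecoverage (CGrpSh2.Ga Scheme.fppfPrecoverage X)).hom.app (op T) (ULift.up (Additive.ofMul s))) h χ =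
      chApp χ (𝟙 V) (h ≫ s) := rfl

variable [IsAffine T.left]

/-- The structure map of the spectrum of an algebra. -/
abbrev algHom (A : Type u) [CommRing A] [Algebra Γ(T.left, ⊤) A] : Γ(T.left, ⊤) ⟶ CommRingCat.of A :=
  CommRingCat.ofHom (algebraMap Γ(T.left, ⊤) A)

open scoped Classical in
/-- The function of polynomial characters attached to a functional. -/
def charFn : CharFn Γ(T.left, ⊤) where
  app A _ _ f := if hf : IsC f then
      (Scheme.ΓSpecIso (CommRingCat.of A)).hom (phiApp Φ (specHom T (algHom A))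
        (charPoly (specObj T (algHom A)) (f.map (Scheme.ΓSpecIso (CommRingCat.of A)).inv.hom) (hf.map _)))
    else 0
  app_one A _ _ := by
    rw [dif_pos isC_one]
    rw [charPoly_congr (Polynomial.map_one _), charPoly_one, phiApp_zero]
    exact map_one _
  app_mul A _ _ f g hf hg := by
    rw [dif_pos hf, dif_pos hg, dif_pos (hf.mul hg)]
    rw [charPoly_congr (Polynomial.map_mul _), charPoly_mul (hf.map _) (hg.map _), phiApp_add]
    exact map_mul _ _ _
  nat A B _ _ _ _ e f hf := by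
    rw [dif_pos hf, dif_pos (hf.map _)]
    let ψ : CommRingCat.of A ⟶ Γ((specObj T (algHom B)).left, ⊤) :=
      CommRingCat.ofHom (e : A →+* B) ≫ (Scheme.ΓSpecIso (CommRingCat.of B)).inv
    have comm : algHom A ≫ ψ = (specHom T (algHom B)).left.appTop := by
      rw [specHom_appTop, ← Category.assoc]
      congr 1
      exact CommRingCat.hom_ext e.comp_algebraMap
    have h1 := phiApp_comp Φ (specLift T (algHom A) ψ _ comm) (specHom T (algHom A))
      (charPoly (specObj T (algHom A)) (f.map (Scheme.ΓSpecIso (CommRingCat.of A)).inv.hom) (hf.map _))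
    rw [specLift_comp, restr_charPoly, specLift_appTop] at h1
    have e1 : (f.map (Scheme.ΓSpecIso (CommRingCat.of A)).inv.hom).map
        ((Scheme.ΓSpecIso (CommRingCat.of A)).hom ≫ ψ).hom =
        (f.map (e : A →+* B)).map (Scheme.ΓSpecIso (CommRingCat.of B)).inv.hom := by
      rw [Polynomial.map_map, Polynomial.map_map, ← CommRingCat.hom_comp, Iso.inv_hom_id_assoc]
      rfl
    rw [charPoly_congr e1] at h1
    rw [h1, CommRingCat.comp_apply]
    exact Iso.inv_hom_id_apply (Scheme.ΓSpecIso (CommRingCat.of B)) _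

theorem exists_pt (hB : HasBidual Γ(T.left, ⊤)) : ∃ s : T ⟶ Red.Ga X,
    (CGrpSh2.toDoubleDual Scheme.fppfPrecoverage (CGrpSh2.Ga Scheme.fppfPrecoverage X)).hom.app (op T) (ULift.up (Additive.ofMul s)) = Φ := by
  obtain ⟨r, hr⟩ := hB (charFn Φ)
  refine ⟨GaPts.ptOfFn r, phi_ext _ fun V g χ hV => ?_⟩
  obtain ⟨f, hf, rfl⟩ := exists_poly χ
  rw [phiApp_bidual, chApp_charPoly, GaPts.gaFn_comp, GaPts.gaFn_ptOfFn, Over.id_left, Scheme.Hom.id_appTop,
    CommRingCat.hom_id, Polynomial.map_id]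
  letI : Algebra Γ(T.left, ⊤) Γ(V.left, ⊤) := g.left.appTop.hom.toAlgebra
  let jj : CommRingCat.of Γ(V.left, ⊤) ⟶ Γ(V.left, ⊤) := CommRingCat.ofHom (RingHom.id _)
  have comm : algHom Γ(V.left, ⊤) ≫ jj = g.left.appTop := rfl
  let l := specLift T (algHom Γ(V.left, ⊤)) jj g comm
  have h1 := hr Γ(V.left, ⊤) f hf
  simp only [charFn] at h1
  rw [dif_pos hf] at h1
  have h2 := phiApp_comp Φ l (specHom T _)
    (charPoly (specObj T (algHom Γ(V.left, ⊤)))
      (f.map (Scheme.ΓSpecIso (CommRingCat.of Γ(V.left, ⊤))).inv.hom) (hf.map _))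
  rw [specLift_comp, restr_charPoly, specLift_appTop] at h2
  have e1 : (f.map (Scheme.ΓSpecIso (CommRingCat.of Γ(V.left, ⊤))).inv.hom).map
      ((Scheme.ΓSpecIso (CommRingCat.of Γ(V.left, ⊤))).hom ≫ jj).hom = f := by
    rw [Polynomial.map_map, ← CommRingCat.hom_comp, Iso.inv_hom_id_assoc]
    exact Polynomial.map_id
  rw [charPoly_congr e1] at h2
  rw [h2]
  exact h1.symm

theorem pt_injective (hS : Separating Γ(T.left, ⊤)) {s s' : T ⟶ Red.Ga X}
    (h : (CGrpSh2.toDoubleDual Scheme.fppfPrecoverage (CGrpSh2.Ga Scheme.fppfPrecoverage X)).hom.app (op T) (ULift.up (Additive.ofMul s)) =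
      (CGrpSh2.toDoubleDual Scheme.fppfPrecoverage (CGrpSh2.Ga Scheme.fppfPrecoverage X)).hom.app (op T) (ULift.up (Additive.ofMul s'))) : s = s' := by
  refine GaPts.gaFn_injective (hS _ _ fun A _ _ f hf => ?_)
  let ε := Scheme.ΓSpecIso (CommRingCat.of A)
  have h1 := congrArg (fun Φ => phiApp Φ (specHom T (algHom A))
    (charPoly (specObj T (algHom A)) (f.map ε.inv.hom) (hf.map _))) h
  have h2 : ∀ t : T ⟶ Red.Ga X,
      phiApp ((CGrpSh2.toDoubleDual Scheme.fppfPrecoverage (CGrpSh2.Ga Scheme.fppfPrecoverage X)).hom.app (op T)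
        (ULift.up (Additive.ofMul t))) (specHom T (algHom A))
        (charPoly (specObj T (algHom A)) (f.map ε.inv.hom) (hf.map _)) =
      ε.inv (f.eval (algebraMap Γ(T.left, ⊤) A (Red.gaFn t))) := fun t => by
    refine (phiApp_bidual t _ _).trans ?_
    rw [chApp_charPoly, GaPts.gaFn_comp, Over.id_left, Scheme.Hom.id_appTop, CommRingCat.hom_id,
      Polynomial.map_id, specHom_appTop, CommRingCat.comp_apply]
    exact Polynomial.eval_map_apply (f := ε.inv.hom) _
  exact ε.commRingCatIsoToRingEquiv.symm.injective ((h2 s).symm.trans (h1.trans (h2 s')))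

end Bidual

theorem exists_eq_up {T : Over X} (x : (CGrpSh2.Ga Scheme.fppfPrecoverage X).obj.obj (op T)) :
    ∃ s : T ⟶ Red.Ga X, x = ULift.up (Additive.ofMul s) :=
  ⟨x.down.toMul, rfl⟩

theorem app_injective {T : Over X} [IsAffine T.left] (hS : Separating Γ(T.left, ⊤))
    (x y : (CGrpSh2.Ga Scheme.fppfPrecoverage X).obj.obj (op T))
    (hxy : (CGrpSh2.toDoubleDual Scheme.fppfPrecoverage (CGrpSh2.Ga Scheme.fppfPrecoverage X)).hom.app (op T) x =
      (CGrpSh2.toDoubleDual Scheme.fppfPrecoverage (CGrpSh2.Ga Scheme.fppfPrecoverage X)).hom.app (op T) y) : x = y := by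
  obtain ⟨s, rfl⟩ := exists_eq_up x
  obtain ⟨s', rfl⟩ := exists_eq_up y
  rw [pt_injective hS hxy]

theorem app_surjective {T : Over X} [IsAffine T.left] (hB : HasBidual Γ(T.left, ⊤))
    (Φ : (CGrpSh2.dualSh Scheme.fppfPrecoverage
      (CGrpSh2.dualSh Scheme.fppfPrecoverage (CGrpSh2.Ga Scheme.fppfPrecoverage X))).obj.obj (op T)) :
    ∃ x, (CGrpSh2.toDoubleDual Scheme.fppfPrecoverage (CGrpSh2.Ga Scheme.fppfPrecoverage X)).hom.app (op T) x = Φ :=
  Exists.elim (exists_pt (T := T) Φ hB) fun s hs => ⟨_, hs⟩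

theorem isIso_toDoubleDual (hB : ∀ T : Over X, IsAffine T.left → HasBidual Γ(T.left, ⊤) ∧ Separating Γ(T.left, ⊤)) :
    IsIso (CGrpSh2.toDoubleDual Scheme.fppfPrecoverage (CGrpSh2.Ga Scheme.fppfPrecoverage X)) :=
  isIso_of_bijective_affine (F := CGrpSh2.Ga Scheme.fppfPrecoverage X)
    (G := CGrpSh2.dualSh Scheme.fppfPrecoverage
      (CGrpSh2.dualSh Scheme.fppfPrecoverage (CGrpSh2.Ga Scheme.fppfPrecoverage X)))
    (CGrpSh2.toDoubleDual Scheme.fppfPrecoverage (CGrpSh2.Ga Scheme.fppfPrecoverage X))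
    fun T hT => ⟨app_injective (hB T hT).2, app_surjective (hB T hT).1⟩

end Groth.Agent.GmDual77.GaDual
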