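import Mathlib.RingTheory.Coalgebra.GroupLike
import Mathlib.RingTheory.Coalgebra.Convolution
import Mathlib.RingTheory.Coalgebra.Hom
import Mathlib.RingTheory.IntegralClosure.IsIntegral.Basic
import Mathlib.RingTheory.Ideal.GoingUp
import Mathlib.RingTheory.Ideal.Quotient.Operations
import Mathlib.RingTheory.Finiteness.Basic
import Mathlib.RingTheory.IntegralClosure.Algebra.Defs
import Mathlib.FieldTheory.IsAlgClosed.Basic
import Mathlib.LinearAlgebra.Dual.Lemmas
import Mathlib.LinearAlgebra.TensorProduct.Basis
import Mathlib.RingTheory.Norm.Defs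
import Mathlib.LinearAlgebra.Matrix.ToLin

/-!
# Lifting group-like elements along a map of cocommutative coalgebras

If `b` is group-like and lies in the image of a finite-dimensional subcoalgebra `W`, there is a
comultiplicative matrix with entries in `W` mapping to `b • 1`; over an algebraically closed field it
has size one.  The matrix is a representation of the dual algebra `A*` on a residue field of
its finite quotient by the annihilator of `W`, lying over the character `f ↦ f b` of `B*`.
-/

universe u

open TensorProduct Coalgebra WithConv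

namespace Groth.Agent.GmDual77

variable {k : Type u} [Field k] {A B : Type u}

/-- Functionals `f ⊗ g` separate the points of `A ⊗ A`. -/
theorem tensor_ext [AddCommGroup A] [Module k A] {z w : A ⊗[k] A}
    (h : ∀ f g : A →ₗ[k] k, TensorProduct.lid k k (TensorProduct.map f g z) =
      TensorProduct.lid k k (TensorProduct.map f g w)) : z = w := by
  let b := Module.Free.chooseBasis k A
  apply (b.tensorProduct b).repr.injective
  ext ⟨i, j⟩
  have key : ∀ y : A ⊗[k] A, TensorProduct.lid k k (TensorProduct.map (b.coord i) (b.coord j) y) =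
      (b.tensorProduct b).repr y (i, j) := by
    intro y
    induction y using TensorProduct.induction_on with
    | zero => simp
    | tmul a a' => simp [mul_comm]
    | add y y' hy hy' => simp [hy, hy']
  rw [← key, ← key, h]

/-- A character of `S` factoring through a finite algebra `R` extends to a matrix representation of `R`,
of size one over an algebraically closed field. -/
theorem exists_rep {S R : Type u} [CommRing S] [CommRing R] [Algebra k S] [Algebra k R] [Module.Finite k R]
    (q : S →ₐ[k] R) (ev : S →ₐ[k] k) (hker : ∀ x, q x = 0 → ev x = 0) :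
    ∃ (d : ℕ) (ρ : R →ₐ[k] Matrix (Fin d) (Fin d) k), 0 < d ∧ (IsAlgClosed k → d = 1) ∧
      ∀ x, ρ (q x) = ev x • 1 := by
  let E := q.range
  letI : Algebra E R := E.val.toRingHom.toAlgebra
  have : IsScalarTower k E R := IsScalarTower.of_algebraMap_eq fun _ => rfl
  let evE : E →+* k :=
    q.rangeRestrict.toRingHom.liftOfSurjective q.rangeRestrict_surjective
      ⟨ev.toRingHom, fun x hx => hker x (congrArg Subtype.val hx)⟩
  have hevE : ∀ x, evE (q.rangeRestrict x) = ev x := fun x =>
    RingHom.liftOfRightInverse_comp_apply q.rangeRestrict.toRingHom _ _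
      ⟨ev.toRingHom, fun y hy => hker y (congrArg Subtype.val hy)⟩ x
  have hmax : (RingHom.ker evE).IsMaximal := RingHom.ker_isMaximal_of_surjective evE fun c =>
    ⟨q.rangeRestrict (algebraMap k S c), by rw [hevE, ev.commutes]; rfl⟩
  have : Algebra.IsIntegral E R := Algebra.IsIntegral.tower_top k
  obtain ⟨m, hm, hmE⟩ := Ideal.exists_ideal_over_maximal_of_isIntegral (S := R) (RingHom.ker evE)
    (by
      intro x hx
      have hx0 : x = 0 := Subtype.ext hx
      rw [hx0, RingHom.mem_ker, map_zero])
  let L := R ⧸ m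
  let mkL : R →ₐ[k] L := Ideal.Quotient.mkₐ k m
  letI : Field L := Ideal.Quotient.field m
  let bas := Module.finBasis k L
  refine ⟨Module.finrank k L, (Algebra.leftMulMatrix bas).comp mkL, Module.finrank_pos, fun _ => ?_, fun x => ?_⟩
  · exact ((LinearEquiv.ofBijective (Algebra.linearMap k L)
      IsAlgClosed.algebraMap_bijective_of_isIntegral).finrank_eq).symm.trans (Module.finrank_self k)
  · have h2 : q.rangeRestrict x - algebraMap k E (ev x) ∈ RingHom.ker evE := by
      rw [RingHom.mem_ker, map_sub, hevE, ← AlgHom.commutes q.rangeRestrict, hevE, ev.commutes, sub_eq_zero]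
      rfl
    rw [← hmE, Ideal.mem_comap, map_sub] at h2
    have h3 : mkL (q x) = algebraMap k L (ev x) := by
      rw [← mkL.commutes]
      exact Ideal.Quotient.eq.2 h2
    show Algebra.leftMulMatrix bas (mkL (q x)) = _
    rw [h3, AlgHom.commutes, Algebra.algebraMap_eq_smul_one]

theorem exists_rep' {S T : Type u} [CommRing S] [CommRing T] [Algebra k S] [Algebra k T] (J : Ideal T)
    [Module.Finite k (T ⧸ J)] (δ : S →ₐ[k] T) (ev : S →ₐ[k] k) (hker : ∀ x, δ x ∈ J → ev x = 0) :
    ∃ (d : ℕ) (ρ : T →ₐ[k] Matrix (Fin d) (Fin d) k), 0 < d ∧ (IsAlgClosed k → d = 1) ∧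
      (∀ f ∈ J, ρ f = 0) ∧ ∀ x, ρ (δ x) = ev x • 1 := by
  obtain ⟨d, ρ, hd, hd1, hρ⟩ :=
    exists_rep ((Ideal.Quotient.mkₐ k J).comp δ) ev fun x hx => hker x (Ideal.Quotient.eq_zero_iff_mem.1 hx)
  refine ⟨d, ρ.comp (Ideal.Quotient.mkₐ k J), hd, hd1, fun f hf => ?_, hρ⟩
  show ρ (Ideal.Quotient.mk J f) = 0
  rw [Ideal.Quotient.eq_zero_iff_mem.2 hf, map_zero]

variable [AddCommGroup A] [Module k A] [AddCommGroup B] [Module k B] [Coalgebra k A] [Coalgebra k B]

theorem conv_apply (f g : WithConv (A →ₗ[k] k)) (a : A) :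
    (f * g).ofConv a = TensorProduct.lid k k (TensorProduct.map f.ofConv g.ofConv (comul a)) := by
  show (f * g) a = _
  rw [LinearMap.convMul_apply]
  generalize comul (R := k) a = z
  induction z using TensorProduct.induction_on with
  | zero => simp
  | tmul x y => simp
  | add y y' hy hy' => simp [hy, hy']

theorem conv_one_apply (a : A) : (1 : WithConv (A →ₗ[k] k)).ofConv a = counit a := by
  show (1 : WithConv (A →ₗ[k] k)) a = _
  simp

theorem conv_groupLike {a : A} (ha : IsGroupLikeElem k a) (f g : WithConv (A →ₗ[k] k)) :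
    (f * g).ofConv a = f.ofConv a * g.ofConv a := by
  rw [conv_apply, ha.comul_eq_tmul_self, TensorProduct.map_tmul, TensorProduct.lid_tmul, smul_eq_mul]

/-- Precomposition with a coalgebra map, on the dual algebras. -/
noncomputable def dualMap (π : A →ₗc[k] B) : WithConv (B →ₗ[k] k) →ₐ[k] WithConv (A →ₗ[k] k) :=
  AlgHom.ofLinearMap
    { toFun := fun f => toConv (f.ofConv ∘ₗ π.toLinearMap)
      map_add' := fun _ _ => WithConv.ext (LinearMap.ext fun _ => rfl)
      map_smul' := fun _ _ => WithConv.ext (LinearMap.ext fun _ => rfl) }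
    (WithConv.ext (LinearMap.ext fun a => by
      show (1 : WithConv (B →ₗ[k] k)).ofConv (π a) = (1 : WithConv (A →ₗ[k] k)).ofConv a
      rw [conv_one_apply, conv_one_apply, CoalgHomClass.counit_comp_apply]))
    fun f g => WithConv.ext (LinearMap.ext fun a => by
      show (f * g).ofConv (π a) = _
      rw [conv_apply, conv_apply, ← CoalgHomClass.map_comp_comul_apply π a, ← LinearMap.comp_apply,
        ← TensorProduct.map_comp]
      rfl)

theorem dualMap_apply (π : A →ₗc[k] B) (f : WithConv (B →ₗ[k] k)) (a : A) :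
    (dualMap π f).ofConv a = f.ofConv (π a) := rfl

/-- **Lifting of group-like elements.** -/
theorem exists_lift [Coalgebra.IsCocomm k A] [Coalgebra.IsCocomm k B] (π : A →ₗc[k] B)
    (W : Submodule k A) [Module.Finite k W]
    (hW : ∀ w ∈ W, comul (R := k) w ∈ LinearMap.range (TensorProduct.map W.subtype W.subtype))
    {b : B} (hb : IsGroupLikeElem k b) {a : A} (ha : a ∈ W) (hab : π a = b) :
    ∃ (d : ℕ) (M : Matrix (Fin d) (Fin d) A), 0 < d ∧ (IsAlgClosed k → d = 1) ∧
      (∀ i j, M i j ∈ W) ∧ (∀ i j, comul (R := k) (M i j) = ∑ l, M i l ⊗ₜ[k] M l j) ∧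
      (∀ i j, counit (R := k) (M i j) = if i = j then 1 else 0) ∧
      ∀ i j, π (M i j) = if i = j then b else 0 := by
  classical
  -- the finite-dimensional quotient `R` of the dual algebra
  let r : WithConv (A →ₗ[k] k) →ₗ[k] (W →ₗ[k] k) :=
    { toFun := fun f => f.ofConv ∘ₗ W.subtype, map_add' := fun _ _ => rfl, map_smul' := fun _ _ => rfl }
  let J : Ideal (WithConv (A →ₗ[k] k)) :=
    { carrier := {f | ∀ w ∈ W, f.ofConv w = 0}
      add_mem' := fun {f g} hf hg w hw => by
        show f.ofConv w + g.ofConv w = 0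
        rw [hf w hw, hg w hw, add_zero]
      zero_mem' := fun w _ => rfl
      smul_mem' := fun c f hf w hw => by
        show (c * f).ofConv w = 0
        rw [conv_apply]
        obtain ⟨z, hz⟩ := hW w hw
        rw [← hz]
        clear hz
        induction z using TensorProduct.induction_on with
        | zero => simp
        | tmul x y => simp [hf y.1 y.2]
        | add y y' hy hy' => simp only [map_add, hy, hy', add_zero] }
  let R := WithConv (A →ₗ[k] k) ⧸ J
  have : Module.Finite k R := by
    let r' : R →ₗ[k] (W →ₗ[k] k) := (J.restrictScalars k).liftQ r (fun f hf => LinearMap.ext fun w => hf w w.2)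
    refine Module.Finite.of_injective r' ((injective_iff_map_eq_zero r').2 fun x => ?_)
    obtain ⟨f, rfl⟩ := Ideal.Quotient.mk_surjective x
    exact fun hf => Ideal.Quotient.eq_zero_iff_mem.2 fun w hw => LinearMap.congr_fun hf ⟨w, hw⟩
  -- the image `E` of the dual of `B` and its character at `b`
  let evb : WithConv (B →ₗ[k] k) →ₐ[k] k :=
    AlgHom.ofLinearMap { toFun := fun f => f.ofConv b, map_add' := fun _ _ => rfl, map_smul' := fun _ _ => rfl }
      (by show (1 : WithConv (B →ₗ[k] k)).ofConv b = 1; rw [conv_one_apply, hb.counit_eq_one])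
      (fun f g => conv_groupLike hb f g)
  obtain ⟨d, ρ, hd, hd1, hρJ, hρq⟩ := exists_rep' J (dualMap π) evb fun f hf => by
    show f.ofConv b = 0
    rw [← hab, ← dualMap_apply]
    exact hf a ha
  -- functionals killing `J` are evaluations at elements of `W`
  obtain ⟨proj, hproj⟩ := LinearMap.exists_leftInverse_of_injective W.subtype W.ker_subtype
  have hev : ∀ i j, ∃ w ∈ W, ∀ f, ρ f i j = f.ofConv w := by
    intro i j
    let μ : (W →ₗ[k] k) →ₗ[k] k :=
      { toFun := fun φ => ρ (toConv (φ ∘ₗ proj)) i j
        map_add' := fun φ ψ => by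
          rw [show toConv ((φ + ψ) ∘ₗ proj) = toConv (φ ∘ₗ proj) + toConv (ψ ∘ₗ proj) from rfl, map_add]
          rfl
        map_smul' := fun c φ => by
          rw [show toConv ((c • φ) ∘ₗ proj) = c • toConv (φ ∘ₗ proj) from rfl, map_smul]
          rfl }
    refine ⟨((Module.evalEquiv k W).symm μ : W), Subtype.property _, fun f => ?_⟩
    have h1 : μ (f.ofConv ∘ₗ W.subtype) = (f.ofConv ∘ₗ W.subtype) ((Module.evalEquiv k W).symm μ) := by
      conv_lhs => rw [← (Module.evalEquiv k W).apply_symm_apply μ]
      rfl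
    refine Eq.trans ?_ h1
    have h2 : f - toConv (f.ofConv ∘ₗ W.subtype ∘ₗ proj) ∈ J := fun w hw => by
      show f.ofConv w - f.ofConv (proj w) = 0
      rw [show (proj w : A) = w from congrArg Subtype.val (LinearMap.congr_fun hproj ⟨w, hw⟩), sub_self]
    have h3 := hρJ _ h2
    rw [map_sub, sub_eq_zero] at h3
    exact congrArg (fun N => N i j) h3
  choose M hMW hM using hev
  refine ⟨d, Matrix.of M, hd, hd1, hMW, fun i j => ?_, fun i j => ?_, fun i j => ?_⟩
  · refine tensor_ext fun f g => ?_
    have h1 := congrArg (fun N => N i j) (map_mul ρ (toConv f) (toConv g))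
    simp only [Matrix.mul_apply, hM, conv_apply] at h1
    simpa [map_sum] using h1
  · rw [← conv_one_apply, Matrix.of_apply, ← hM, map_one, Matrix.one_apply]
  · refine Module.eval_apply_injective k (LinearMap.ext fun φ => ?_)
    have h1 : ρ (dualMap π (toConv φ)) = φ b • (1 : Matrix (Fin d) (Fin d) k) := by
      exact hρq (toConv φ)
    have h4 : φ (π (M i j)) = (φ b • (1 : Matrix (Fin d) (Fin d) k)) i j := by
      rw [← h1, hM]; rfl
    show φ (π (M i j)) = _
    rw [h4, Matrix.smul_apply, Matrix.one_apply, smul_eq_mul, mul_ite, mul_one, mul_zero]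
    split_ifs <;> simp

end Groth.Agent.GmDual77
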