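import Mathlib.AlgebraicGeometry.Morphisms.Finite
import Mathlib.AlgebraicGeometry.Morphisms.Flat
import Mathlib.RingTheory.Localization.Free
import Mathlib.RingTheory.Spectrum.Prime.FreeLocus
import Mathlib.RingTheory.Flat.EquationalCriterion
import Mathlib.RingTheory.TensorProduct.IsBaseChangeFree
import Mathlib.RingTheory.Norm.Basic
import Mathlib.AlgebraicGeometry.Noetherian

/-!
# The norm of functions along a morphism with locally free functions
-/

set_option autoImplicit false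
set_option linter.style.haveILetI false

universe u

open CategoryTheory CategoryTheory.Limits AlgebraicGeometry Opposite TopologicalSpace

noncomputable section

namespace Groth.Agent.GmDual77.Norm

section Algebra

theorem norm_baseChange_aux {A B A' B' : Type u} [CommRing A] [CommRing B] [CommRing A'] [CommRing B']
    [Algebra A B] [Algebra A A'] [Algebra A' B'] [Algebra B B'] [Algebra A B']
    [IsScalarTower A A' B'] [IsScalarTower A B B'] [Algebra.IsPushout A A' B B']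
    [Module.Free A B] [Module.Finite A B] :
    (Module.Free A' B' ∧ Module.Finite A' B') ∧
      ∀ s : B, Algebra.norm A' (algebraMap B B' s) = algebraMap A A' (Algebra.norm A s) := by
  classical
  have ibc := (‹Algebra.IsPushout A A' B B'›).out
  let b := Module.Free.chooseBasis A B
  let b' := ibc.basis b
  refine ⟨⟨Module.Free.of_basis b', Module.Finite.of_basis b'⟩, fun s => ?_⟩
  rw [Algebra.norm_eq_matrix_det b', Algebra.norm_eq_matrix_det b, RingHom.map_det]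
  congr 1
  ext i j
  rw [RingHom.mapMatrix_apply, Matrix.map_apply, Algebra.leftMulMatrix_eq_repr_mul,
    Algebra.leftMulMatrix_eq_repr_mul, ← IsBaseChange.basis_repr_comp_apply b ibc]
  rw [IsBaseChange.basis_apply]
  simp [b']

theorem norm_of_isPushout {A B A' B' : CommRingCat.{u}} {φ : A ⟶ B} {ρ : A ⟶ A'} {σ : B ⟶ B'} {φ' : A' ⟶ B'}
    (h : IsPushout ρ φ φ' σ)
    (hf : letI := φ.hom.toAlgebra; Module.Free A B ∧ Module.Finite A B) :
    (letI := φ'.hom.toAlgebra; Module.Free A' B' ∧ Module.Finite A' B') ∧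
      ∀ s : B, (letI := φ'.hom.toAlgebra; Algebra.norm A' (σ s)) =
        ρ (letI := φ.hom.toAlgebra; Algebra.norm A s) := by
  algebraize [φ.hom, ρ.hom, φ'.hom, σ.hom, σ.hom.comp φ.hom]
  haveI := hf.1
  haveI := hf.2
  haveI : IsScalarTower A A' B' := IsScalarTower.of_algebraMap_eq' <| by
    change _ = (ρ ≫ φ').hom
    rw [h.w]
    rfl
  haveI : Algebra.IsPushout A A' B B' := CommRingCat.isPushout_iff_isPushout.1 (show
    IsPushout (CommRingCat.ofHom (algebraMap A A')) (CommRingCat.ofHom (algebraMap A B))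
      (CommRingCat.ofHom (algebraMap A' B')) (CommRingCat.ofHom (algebraMap B B')) from h)
  exact norm_baseChange_aux (A := A) (B := B) (A' := A') (B' := B')

end Algebra

variable {X S : Scheme.{u}} (p : X ⟶ S)

/-- An affine open of the target over which the functions upstairs are finite free. -/
structure Good (W : S.Opens) : Prop where
  affine : IsAffineOpen W
  free : letI := (p.app W).hom.toAlgebra; Module.Free Γ(S, W) Γ(X, p ⁻¹ᵁ W) ∧ Module.Finite Γ(S, W) Γ(X, p ⁻¹ᵁ W)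

/-- The norm of functions over an open of the target. -/
def nm (W : S.Opens) : Γ(X, p ⁻¹ᵁ W) →* Γ(S, W) :=
  letI := (p.app W).hom.toAlgebra
  Algebra.norm Γ(S, W)

/-- Every point has a good neighbourhood. -/
def LocGood : Prop := ∀ s : S, ∃ W : S.Opens, s ∈ W ∧ Good p W

section Pullback

variable {p}
variable {Y T : Scheme.{u}} {g : Y ⟶ X} {q : Y ⟶ T} {f : T ⟶ S} [IsAffineHom p]

/-- Good opens pull back. -/
theorem good_of_isPullback (H : IsPullback g q p f) {US : S.Opens} {UT : T.Opens} (hUS : Good p US)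
    (hUT : IsAffineOpen UT) (hle : UT ≤ f ⁻¹ᵁ US) (hle' : q ⁻¹ᵁ UT ≤ g ⁻¹ᵁ (p ⁻¹ᵁ US)) :
    Good q UT ∧ ∀ s : Γ(X, p ⁻¹ᵁ US),
      nm q UT (g.appLE (p ⁻¹ᵁ US) (q ⁻¹ᵁ UT) hle' s) = f.appLE US UT hle (nm p US s) := by
  have hUY : q ⁻¹ᵁ UT = g ⁻¹ᵁ (p ⁻¹ᵁ US) ⊓ q ⁻¹ᵁ UT := (inf_eq_right.2 hle').symm
  have := isIso_pushoutSection_of_isAffineOpen H hle (le_refl (p ⁻¹ᵁ US)) hUY hUS.affine hUT
    (hUS.affine.preimage p)
  have h := ((isIso_pushoutSection_iff H hle (le_refl (p ⁻¹ᵁ US)) hUY).1 this).flip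
  rw [← Scheme.Hom.app_eq_appLE, ← Scheme.Hom.app_eq_appLE] at h
  obtain ⟨hfree, hnorm⟩ := norm_of_isPushout h hUS.free
  exact ⟨⟨hUT, hfree⟩, hnorm⟩

theorem preimage_le (H : IsPullback g q p f) {US : S.Opens} {UT : T.Opens} (hle : UT ≤ f ⁻¹ᵁ US) :
    q ⁻¹ᵁ UT ≤ g ⁻¹ᵁ (p ⁻¹ᵁ US) := by
  rw [← Scheme.Hom.comp_preimage, H.w, Scheme.Hom.comp_preimage]
  exact q.preimage_mono hle

theorem locGood_of_isPullback (H : IsPullback g q p f) (hp : LocGood p) : LocGood q := fun t => by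
  obtain ⟨US, hmem, hUS⟩ := hp (f t)
  obtain ⟨_, ⟨UT, hUT, rfl⟩, htU, hsub⟩ :=
    T.isBasis_affineOpens.exists_subset_of_mem_open (show t ∈ f ⁻¹ᵁ US from hmem) (f ⁻¹ᵁ US).2
  exact ⟨UT, htU, (good_of_isPullback H hUS hUT hsub (preimage_le H hsub)).1⟩

theorem good_res {W W' : S.Opens} (hW : Good p W) (hW' : IsAffineOpen W') (h : W' ≤ W) :
    Good p W' ∧ ∀ s : Γ(X, p ⁻¹ᵁ W),
      nm p W' (X.presheaf.map (homOfLE (p.preimage_mono h)).op s) =
        S.presheaf.map (homOfLE h).op (nm p W s) := by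
  obtain ⟨h1, h2⟩ := good_of_isPullback (p := p) (IsPullback.of_id_fst (f := p)) hW hW' h (p.preimage_mono h)
  simp only [Scheme.Hom.appLE, Scheme.Hom.id_app, Category.id_comp] at h2
  exact ⟨h1, h2⟩

end Pullback

/-- A function on the target is the norm of a function on the source. -/
def IsNm (s : Γ(X, ⊤)) (v : Γ(S, ⊤)) : Prop :=
  ∀ W : S.Opens, Good p W →
    S.presheaf.map (homOfLE le_top).op v = nm p W (X.presheaf.map (homOfLE le_top).op s)

theorem isNm_one : IsNm p 1 1 := fun W _ => by simp only [map_one]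

theorem isNm_mul {s s' : Γ(X, ⊤)} {v v' : Γ(S, ⊤)} (h : IsNm p s v) (h' : IsNm p s' v') :
    IsNm p (s * s') (v * v') := fun W hW => by simp only [map_mul, h W hW, h' W hW]

theorem res_res {Z : Scheme.{u}} {U V W : Z.Opens} (h₁ : U ≤ V) (h₂ : V ≤ W) (v : Γ(Z, W)) :
    Z.presheaf.map (homOfLE h₁).op (Z.presheaf.map (homOfLE h₂).op v) =
      Z.presheaf.map (homOfLE (h₁.trans h₂)).op v := by
  rw [← CommRingCat.comp_apply, ← Functor.map_comp]
  rfl

theorem ext_good (hp : LocGood p) {v w : Γ(S, ⊤)}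
    (h : ∀ W : S.Opens, Good p W →
      S.presheaf.map (homOfLE (le_top : W ≤ ⊤)).op v = S.presheaf.map (homOfLE le_top).op w) : v = w := by
  refine TopCat.Sheaf.eq_of_locally_eq' S.sheaf (fun W : {W : S.Opens // Good p W} => W.1) ⊤
    (fun _ => homOfLE le_top) (fun x _ => ?_) v w fun W => h W.1 W.2
  obtain ⟨W, hx, hW⟩ := hp x
  exact Opens.mem_iSup.2 ⟨⟨W, hW⟩, hx⟩

variable [IsAffineHom p]

theorem exists_isNm (hp : LocGood p) (s : Γ(X, ⊤)) : ∃ v, IsNm p s v := by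
  let U : {W : S.Opens // Good p W} → S.Opens := fun W => W.1
  let sf : ∀ W : {W : S.Opens // Good p W}, Γ(S, U W) := fun W =>
    nm p W.1 (X.presheaf.map (homOfLE le_top).op s)
  have hcov : (⊤ : S.Opens) ≤ iSup U := fun x _ => by
    obtain ⟨W, hx, hW⟩ := hp x
    exact Opens.mem_iSup.2 ⟨⟨W, hW⟩, hx⟩
  have hcompat : TopCat.Presheaf.IsCompatible S.sheaf.1 U sf := fun i j => by
    apply S.IsSheaf.section_ext
    intro x hx
    obtain ⟨_, ⟨V, hV, rfl⟩, hxV, hsub⟩ := S.isBasis_affineOpens.exists_subset_of_mem_open hx (U i ⊓ U j).2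
    have hsub' : V ≤ U i ⊓ U j := hsub
    refine ⟨V, hsub', hxV, ?_⟩
    have hi : V ≤ i.1 := le_trans hsub inf_le_left
    have hj : V ≤ j.1 := le_trans hsub inf_le_right
    change S.presheaf.map (homOfLE hsub').op (S.presheaf.map (homOfLE inf_le_left).op (sf i)) =
      S.presheaf.map (homOfLE hsub').op (S.presheaf.map (homOfLE inf_le_right).op (sf j))
    rw [res_res, res_res, ← (good_res i.2 hV hi).2, ← (good_res j.2 hV hj).2, res_res, res_res]
  obtain ⟨v, hv, -⟩ := S.sheaf.existsUnique_gluing' U ⊤ (fun _ => homOfLE le_top) hcov sf hcompat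
  exact ⟨v, fun W hW => hv ⟨W, hW⟩⟩

theorem IsNm.unique (hp : LocGood p) {s : Γ(X, ⊤)} {v w : Γ(S, ⊤)} (h : IsNm p s v) (h' : IsNm p s w) :
    v = w :=
  ext_good p hp fun W hW => (h W hW).trans (h' W hW).symm

/-- The norm of global functions. -/
def normFn (hp : LocGood p) : Γ(X, ⊤) →* Γ(S, ⊤) where
  toFun s := (exists_isNm p hp s).choose
  map_one' := IsNm.unique p hp (exists_isNm p hp 1).choose_spec (isNm_one p)
  map_mul' a b := IsNm.unique p hp (exists_isNm p hp (a * b)).choose_spec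
    (isNm_mul p (exists_isNm p hp a).choose_spec (exists_isNm p hp b).choose_spec)

theorem isNm_normFn (hp : LocGood p) (s : Γ(X, ⊤)) : IsNm p s (normFn p hp s) :=
  (exists_isNm p hp s).choose_spec

theorem normFn_eq_norm (hp : LocGood p) [IsAffine S] [Algebra Γ(S, ⊤) Γ(X, ⊤)]
    [Module.Finite Γ(S, ⊤) Γ(X, ⊤)] [Module.Free Γ(S, ⊤) Γ(X, ⊤)]
    (halg : ∀ a : Γ(S, ⊤), algebraMap Γ(S, ⊤) Γ(X, ⊤) a = p.appTop a) (s : Γ(X, ⊤)) :
    normFn p hp s = Algebra.norm Γ(S, ⊤) s := by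
  have e : ‹Algebra Γ(S, ⊤) Γ(X, ⊤)› = (p.app ⊤).hom.toAlgebra := Algebra.algebra_ext _ _ halg
  have hg : Good p ⊤ := ⟨isAffineOpen_top S, by subst e; exact ⟨‹_›, ‹_›⟩⟩
  have h := isNm_normFn p hp s ⊤ hg
  subst e
  have e1 : S.presheaf.map (homOfLE (le_top : (⊤ : S.Opens) ≤ ⊤)).op = 𝟙 _ := S.presheaf.map_id _
  have e2 : X.presheaf.map (homOfLE (le_top : p ⁻¹ᵁ (⊤ : S.Opens) ≤ ⊤)).op = 𝟙 _ := X.presheaf.map_id _
  rw [e1, e2] at h
  exact h

theorem normFn_comp {Y T : Scheme.{u}} {g : Y ⟶ X} {q : Y ⟶ T} {f : T ⟶ S} [IsAffineHom q]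
    (H : IsPullback g q p f) (hp : LocGood p) (hq : LocGood q) (s : Γ(X, ⊤)) :
    normFn q hq (g.appTop s) = f.appTop (normFn p hp s) := by
  refine T.IsSheaf.section_ext fun t _ => ?_
  obtain ⟨US, hmem, hUS⟩ := hp (f t)
  obtain ⟨_, ⟨UT, hUT, rfl⟩, htU, hsub⟩ :=
    T.isBasis_affineOpens.exists_subset_of_mem_open (show t ∈ f ⁻¹ᵁ US from hmem) (f ⁻¹ᵁ US).2
  refine ⟨UT, le_top, htU, ?_⟩
  have hle : UT ≤ f ⁻¹ᵁ US := hsub
  obtain ⟨hgood, hn⟩ := good_of_isPullback H hUS hUT hle (preimage_le H hle)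
  change T.presheaf.map (homOfLE le_top).op (normFn q hq (g.appTop s)) =
    T.presheaf.map (homOfLE le_top).op (f.appTop (normFn p hp s))
  rw [isNm_normFn q hq _ UT hgood]
  have e1 : Y.presheaf.map (homOfLE (le_top : q ⁻¹ᵁ UT ≤ ⊤)).op (g.appTop s) =
      g.appLE (p ⁻¹ᵁ US) (q ⁻¹ᵁ UT) (preimage_le H hle) (X.presheaf.map (homOfLE le_top).op s) := by
    rw [← CommRingCat.comp_apply, ← CommRingCat.comp_apply, Scheme.Hom.map_appLE]
    rfl
  rw [e1, hn, ← isNm_normFn p hp _ US hUS, ← CommRingCat.comp_apply, ← CommRingCat.comp_apply,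
    Scheme.Hom.map_appLE]
  rfl

end Groth.Agent.GmDual77.Norm
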