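import Groth.Agent.GmDual77.FiniteFlat
import Groth.Prelude.Def_CGrpSh3
import Groth.Prelude.Def_GmPts

/-! The norm map of a morphism with locally free functions, on sheaves of points of `𝔾_m`. -/

set_option autoImplicit false
set_option linter.style.haveILetI false

universe u

open CategoryTheory CategoryTheory.Limits AlgebraicGeometry Opposite TopologicalSpace MonObj

noncomputable section

namespace Groth.Agent.GmDual77.NormMap

open Groth.Agent.GmDual77

variable {X X' : Scheme.{u}} (f : X' ⟶ X) [IsAffineHom f]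

theorem isPB (T : Over X) : IsPullback (pullback.snd T.hom f) (pullback.fst T.hom f) f T.hom :=
  (IsPullback.of_hasPullback T.hom f).flip

instance (T : Over X) : IsAffineHom (pullback.fst T.hom f) :=
  MorphismProperty.of_isPullback (P := @IsAffineHom) (isPB f T) ‹_›

theorem locGood_fst (hf : Norm.LocGood f) (T : Over X) : Norm.LocGood (pullback.fst T.hom f) :=
  Norm.locGood_of_isPullback (isPB f T) hf

/-- Norm of functions on `T ×_X X'`. -/
def nrm (hf : Norm.LocGood f) (T : Over X) : Γ(((Over.pullback f).obj T).left, ⊤) →* Γ(T.left, ⊤) :=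
  Norm.normFn (pullback.fst T.hom f) (locGood_fst f hf T)

theorem isPB_map {T' T : Over X} (g : T' ⟶ T) :
    IsPullback ((Over.pullback f).map g).left (pullback.fst T'.hom f) (pullback.fst T.hom f) g.left := by
  refine IsPullback.of_right (h₁₂ := pullback.snd T.hom f) (v₁₃ := f) (h₂₂ := T.hom) ?_ ?_ (isPB f T)
  · have e1 : ((Over.pullback f).map g).left ≫ pullback.snd T.hom f = pullback.snd T'.hom f :=
      pullback.lift_snd _ _ _
    rw [e1, Over.w g]
    exact isPB f T'
  · exact pullback.lift_fst _ _ _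

theorem nrm_map (hf : Norm.LocGood f) {T' T : Over X} (g : T' ⟶ T) (s : Γ(((Over.pullback f).obj T).left, ⊤)) :
    nrm f hf T' (((Over.pullback f).map g).left.appTop s) = g.left.appTop (nrm f hf T s) :=
  Norm.normFn_comp _ (isPB_map f g) _ _ s

/-- Norm of points. -/
def nrmPt (hf : Norm.LocGood f) (T : Over X) (t' : (Over.pullback f).obj T ⟶ Red.Gm X') : T ⟶ Red.Gm X :=
  GmPts.ptOfUnit (Units.map (nrm f hf T) (GmPts.unitOfPt t'))

theorem gmFn_nrmPt (hf : Norm.LocGood f) (T : Over X) (t' : (Over.pullback f).obj T ⟶ Red.Gm X') :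
    Red.gmFn (nrmPt f hf T t') = nrm f hf T (Red.gmFn t') :=
  GmPts.gmFn_ptOfUnit _

theorem nrmPt_mul (hf : Norm.LocGood f) (T : Over X) (a b : (Over.pullback f).obj T ⟶ Red.Gm X') :
    nrmPt f hf T (a * b) = nrmPt f hf T a * nrmPt f hf T b := by
  refine GmPts.gmFn_injective ?_
  dsimp only
  rw [GmPts.gmFn_mul, gmFn_nrmPt, gmFn_nrmPt, gmFn_nrmPt, GmPts.gmFn_mul, map_mul]

theorem nrmPt_comp (hf : Norm.LocGood f) {T' T : Over X} (g : T' ⟶ T)
    (t' : (Over.pullback f).obj T ⟶ Red.Gm X') :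
    nrmPt f hf T' ((Over.pullback f).map g ≫ t') = g ≫ nrmPt f hf T t' := by
  refine GmPts.gmFn_injective ?_
  dsimp only
  rw [gmFn_nrmPt, GmPts.gmFn_comp, GmPts.gmFn_comp, gmFn_nrmPt, nrm_map]

theorem nrm_eq_norm (hf : Norm.LocGood f) (T : Over X) [iT : IsAffine T.left]
    [iA : Algebra Γ(T.left, ⊤) Γ(((Over.pullback f).obj T).left, ⊤)]
    [iM : Module.Finite Γ(T.left, ⊤) Γ(((Over.pullback f).obj T).left, ⊤)]
    [iF : Module.Free Γ(T.left, ⊤) Γ(((Over.pullback f).obj T).left, ⊤)]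
    (halg : ∀ a : Γ(T.left, ⊤), algebraMap Γ(T.left, ⊤) Γ(((Over.pullback f).obj T).left, ⊤) a =
      (pullback.fst T.hom f).appTop a)
    (s : Γ(((Over.pullback f).obj T).left, ⊤)) : nrm f hf T s = Algebra.norm Γ(T.left, ⊤) s :=
  @Norm.normFn_eq_norm ((Over.pullback f).obj T).left T.left (pullback.fst T.hom f) _ (locGood_fst f hf T) iT
    iA iM iF halg s

variable (K : Precoverage Scheme.{u}) [(QuotSh.J K X).Subcanonical] [(QuotSh.J K X').Subcanonical]

/-- The norm map. -/
def normMap (hf : Norm.LocGood f) : CGrpSh3.pushGm K f ⟶ CGrpSh2.Gm K X :=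
  ⟨{ app := fun T => AddCommGrpCat.ofHom
      { toFun := fun x => ULift.up (Additive.ofMul (nrmPt f hf (unop T) (Additive.toMul (ULift.down x))))
        map_zero' := ULift.ext _ _ (Additive.toMul.injective (GmPts.gmFn_injective (by
          change Red.gmFn (nrmPt f hf (unop T) 1) = Red.gmFn (1 : unop T ⟶ Red.Gm X)
          rw [gmFn_nrmPt, GmPts.gmFn_one, GmPts.gmFn_one, map_one])))
        map_add' := fun a b => ULift.ext _ _ (Additive.toMul.injective
          (nrmPt_mul f hf (unop T) a.down.toMul b.down.toMul)) }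
     naturality := fun T₁ T₂ g => AddCommGrpCat.ext fun x => ULift.ext _ _ (Additive.toMul.injective
       (nrmPt_comp f hf g.unop x.down.toMul)) }⟩

theorem normPt_normMap (hf : Norm.LocGood f) (T : Over X) (t' : (Over.pullback f).obj T ⟶ Red.Gm X') :
    CGrpSh3.normPt K f (normMap f K hf) T t' = nrmPt f hf T t' := rfl

theorem isNormMap_normMap (hf : Norm.LocGood f) : CGrpSh3.IsNormMap K f (normMap f K hf) := by
  intro T _ _ _ _ halg t'
  rw [normPt_normMap, gmFn_nrmPt]
  exact nrm_eq_norm f hf T halg _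

theorem normPt_comp (N : CGrpSh3.pushGm K f ⟶ CGrpSh2.Gm K X) {T' T : Over X} (g : T' ⟶ T)
    (t' : (Over.pullback f).obj T ⟶ Red.Gm X') :
    CGrpSh3.normPt K f N T' ((Over.pullback f).map g ≫ t') = g ≫ CGrpSh3.normPt K f N T t' :=
  congrArg (fun z => Additive.toMul (ULift.down z))
    (ConcreteCategory.congr_hom (N.hom.naturality g.op) (ULift.up (Additive.ofMul t')))

theorem gmFn_normPt (hf : Norm.LocGood f) {N : CGrpSh3.pushGm K f ⟶ CGrpSh2.Gm K X}
    (hN : CGrpSh3.IsNormMap K f N) (T : Over X) (t' : (Over.pullback f).obj T ⟶ Red.Gm X') :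
    Red.gmFn (CGrpSh3.normPt K f N T t') = nrm f hf T (Red.gmFn t') := by
  refine Norm.ext_good (pullback.fst T.hom f) (locGood_fst f hf T) fun W hW => ?_
  haveI : IsAffine W.toScheme := hW.affine
  let T' : Over X := Over.mk (W.ι ≫ T.hom)
  let g : T' ⟶ T := Over.homMk W.ι
  haveI : IsAffine T'.left := hW.affine
  have hle : (⊤ : T'.left.Opens) ≤ g.left ⁻¹ᵁ W := le_of_eq W.ι_preimage_self.symm
  have hgood : Norm.Good (pullback.fst T'.hom f) ⊤ :=
    (Norm.good_of_isPullback (isPB_map f g) hW (isAffineOpen_top _) hle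
      (Norm.preimage_le (isPB_map f g) hle)).1
  letI : Algebra Γ(T'.left, ⊤) Γ(((Over.pullback f).obj T').left, ⊤) :=
    ((pullback.fst T'.hom f).app ⊤).hom.toAlgebra
  haveI : Module.Free Γ(T'.left, ⊤) Γ(((Over.pullback f).obj T').left, ⊤) := hgood.free.1
  haveI : Module.Finite Γ(T'.left, ⊤) Γ(((Over.pullback f).obj T').left, ⊤) := hgood.free.2
  have key := hN T' (fun _ => rfl) ((Over.pullback f).map g ≫ t')
  rw [normPt_comp, GmPts.gmFn_comp, GmPts.gmFn_comp,
    ← nrm_eq_norm f hf T' (fun _ => rfl)] at key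
  have key' : W.ι.appTop (Red.gmFn (CGrpSh3.normPt K f N T t')) = W.ι.appTop (nrm f hf T (Red.gmFn t')) :=
    key.trans (nrm_map f hf g _)
  have e : ∀ v : Γ(T.left, ⊤), T.left.presheaf.map (homOfLE (le_top : W ≤ ⊤)).op v =
      W.topIso.hom (W.ι.appTop v) := fun v => by
    rw [← CommRingCat.comp_apply, Scheme.Opens.ι_appTop, Scheme.Opens.topIso_hom]
    erw [← Functor.map_comp]
    rfl
  rw [e, e, key']

theorem unique (hf : Norm.LocGood f) {N N' : CGrpSh3.pushGm K f ⟶ CGrpSh2.Gm K X}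
    (hN : CGrpSh3.IsNormMap K f N) (hN' : CGrpSh3.IsNormMap K f N') : N = N' := by
  refine Sheaf.hom_ext (NatTrans.ext (funext fun T => AddCommGrpCat.ext fun x => ULift.ext _ _
    (Additive.toMul.injective (GmPts.gmFn_injective ?_))))
  exact (gmFn_normPt f K hf hN (unop T) x.down.toMul).trans
    (gmFn_normPt f K hf hN' (unop T) x.down.toMul).symm

end Groth.Agent.GmDual77.NormMap
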